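import Groth.Agent.FamCyc.K812.RigidIdeal
import Groth.Agent.S0981
import Groth.Agent.Flat2B.SmoothGeom
import Groth.Agent.Divis.IdealComap
import Groth.Agent.Flat2D.PicZSch
import Mathlib.AlgebraicGeometry.Morphisms.Flat

/-!
# Flat ideal sheaves on `Y` which descend to `X` infinitesimally, for `O_X = f_* O_Y` universally
-/

set_option autoImplicit false
universe u

open CategoryTheory CategoryTheory.Limits AlgebraicGeometry TopologicalSpace Opposite
open FamCyc.K812.RigidIdeal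
open scoped TensorProduct

namespace FamCyc.K812.RigidGeo

theorem isPushout_sections {X Y S T : Scheme.{u}} {f : T ⟶ S} {g : Y ⟶ X} {iX : X ⟶ S}
    {iY : Y ⟶ T} (H : IsPullback g iY iX f) {US : S.Opens} {UT : T.Opens}
    {UX : X.Opens} (hUST : UT ≤ f ⁻¹ᵁ US) (hUSX : UX ≤ iX ⁻¹ᵁ US)
    {UY : Y.Opens} (hUY : UY = g ⁻¹ᵁ UX ⊓ iY ⁻¹ᵁ UT) (hUS : IsAffineOpen US)
    (hUT : IsAffineOpen UT) (hUX : IsAffineOpen UX) (h1 : UY ≤ g ⁻¹ᵁ UX) (h2 : UY ≤ iY ⁻¹ᵁ UT) :
    IsPushout (iX.appLE US UX hUSX) (f.appLE US UT hUST)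
      (g.appLE UX UY h1) (iY.appLE UT UY h2) :=
  ((isIso_pushoutSection_iff H hUST hUSX hUY).mp
    (isIso_pushoutSection_of_isAffineOpen H hUST hUSX hUY hUS hUT hUX))

lemma map_map_apply {Z : Scheme.{u}} {A B C : Z.Opens} (h1 : B ≤ A) (h2 : C ≤ B) (s : Γ(Z, A)) :
    Z.presheaf.map (homOfLE h2).op (Z.presheaf.map (homOfLE h1).op s) =
      Z.presheaf.map (homOfLE (h2.trans h1)).op s := by
  rw [← ConcreteCategory.comp_apply, ← Functor.map_comp]
  rfl

/-- affine opens of `Y` over `U` satisfying `P`. -/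
structure Idx {X Y : Scheme.{u}} (f : Y ⟶ X) (U : X.Opens) (P : Y.affineOpens → Prop) : Type u where
  /-- the open -/
  V : Y.affineOpens
  hV : P V
  le : V.1 ≤ f ⁻¹ᵁ U

variable {X Y : Scheme.{u}} {f : Y ⟶ X} {U : X.Opens} {P : Y.affineOpens → Prop}

instance : Preorder (Idx f U P) := Preorder.lift Idx.V

lemma Idx.le_iff {i j : Idx f U P} : i ≤ j ↔ i.V.1 ≤ j.V.1 := Iff.rfl

/-- sections over the open of index `i`. -/
def Sec (i : Idx f U P) : Type u := Γ(Y, i.V.1)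

noncomputable instance (i : Idx f U P) : CommRing (Sec i) := inferInstanceAs (CommRing Γ(Y, i.V.1))

noncomputable instance (i : Idx f U P) : Algebra Γ(X, U) (Sec i) :=
  (f.appLE U i.V.1 i.le).hom.toAlgebra

lemma algebraMap_sec (i : Idx f U P) (b : Γ(X, U)) :
    algebraMap Γ(X, U) (Sec i) b = (f.appLE U i.V.1 i.le).hom b := rfl

/-- restriction of sections. -/
noncomputable def res ⦃i j : Idx f U P⦄ (h : j ≤ i) : Sec i →ₐ[Γ(X, U)] Sec j :=
  { (Y.presheaf.map (homOfLE (Idx.le_iff.mp h)).op).hom with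
    commutes' := fun b => by
      change ((f.appLE U i.V.1 i.le) ≫ Y.presheaf.map (homOfLE (Idx.le_iff.mp h)).op).hom b = _
      rw [Scheme.Hom.appLE_map]
      rfl }

lemma res_apply ⦃i j : Idx f U P⦄ (h : j ≤ i) (s : Γ(Y, i.V.1)) :
    (res h : Sec i → Sec j) s = (Y.presheaf.map (homOfLE (Idx.le_iff.mp h)).op).hom s := rfl

section const

variable (hU : IsAffineOpen U) (R : Type u) [CommRing R] [Algebra Γ(X, U) R]

/-- `Spec R → X`. -/
noncomputable def bR : Spec (CommRingCat.of R) ⟶ X :=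
  Spec.map (CommRingCat.ofHom (algebraMap Γ(X, U) R)) ≫ hU.fromSpec

lemma bR_le : (⊤ : (Spec (CommRingCat.of R)).Opens) ≤ bR hU R ⁻¹ᵁ U := by
  rw [bR, Scheme.Hom.comp_preimage, hU.fromSpec_preimage_self]
  exact le_rfl

lemma bR_appLE : (bR hU R).appLE U ⊤ (bR_le hU R) =
    CommRingCat.ofHom (algebraMap Γ(X, U) R) ≫ (Scheme.ΓSpecIso (CommRingCat.of R)).inv := by
  have h1 := Scheme.Hom.appLE_comp_appLE (Spec.map (CommRingCat.ofHom (algebraMap Γ(X, U) R)))
    hU.fromSpec U ⊤ ⊤ (by rw [hU.fromSpec_preimage_self]) (by exact le_top)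
  refine h1.symm.trans ?_
  have h2 : hU.fromSpec.appLE U ⊤ (by rw [hU.fromSpec_preimage_self]) =
      (Scheme.ΓSpecIso Γ(X, U)).inv := by
    rw [Scheme.Hom.appLE, hU.fromSpec_app_self, Category.assoc, ← Functor.map_comp]
    refine Eq.trans (congrArg _ (congrArg _ (Subsingleton.elim _ (𝟙 _)))) ?_
    rw [CategoryTheory.Functor.map_id, Category.comp_id]
  rw [h2]
  have h3 := Scheme.ΓSpecIso_inv_naturality (CommRingCat.ofHom (algebraMap Γ(X, U) R))
  rw [h3]
  rfl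

variable (f P) in
/-- the base change of `Y`. -/
noncomputable abbrev YR : Scheme.{u} := pullback f (bR hU R)

variable (f) in
/-- the coefficient map. -/
noncomputable def kap (O : (YR f hU R).Opens) : CommRingCat.of R ⟶ Γ(YR f hU R, O) :=
  (Scheme.ΓSpecIso (CommRingCat.of R)).inv ≫ (pullback.snd f (bR hU R)).appLE ⊤ O le_top

variable (f) in
/-- the preimage of an open of `Y`. -/
noncomputable abbrev pre (V : Y.Opens) : (YR f hU R).Opens := (pullback.fst f (bR hU R)) ⁻¹ᵁ V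

lemma isPushout_kap (i : Idx f U P) :
    IsPushout (CommRingCat.ofHom (algebraMap Γ(X, U) (Sec i)))
      (CommRingCat.ofHom (algebraMap Γ(X, U) R))
      ((pullback.fst f (bR hU R)).app i.V.1) (kap f hU R (pre f hU R i.V.1)) := by
  have H : IsPullback (pullback.fst f (bR hU R)) (pullback.snd f (bR hU R)) f (bR hU R) :=
    IsPullback.of_hasPullback _ _
  have h := isPushout_sections H (US := U) (UT := ⊤) (UX := i.V.1) (bR_le hU R) i.le
    (UY := pre f hU R i.V.1) (by simp) hU (isAffineOpen_top _) i.V.2 le_rfl le_top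
  rw [bR_appLE] at h
  refine IsPushout.of_iso h (Iso.refl _) (Iso.refl _) (Scheme.ΓSpecIso (CommRingCat.of R))
    (Iso.refl _) ?_ ?_ ?_ ?_
  · simp
    rfl
  · simp
  · rw [Scheme.Hom.appLE_eq_app]
    exact (Category.comp_id _).trans (Category.id_comp _).symm
  · simp [kap]

/-- `Γ(Y, V) ⊗ R ≃ Γ(Y_R, V_R)`. -/
noncomputable def cI (i : Idx f U P) :
    CommRingCat.of (Sec i ⊗[Γ(X, U)] R) ≅ Γ(YR f hU R, pre f hU R i.V.1) :=
  IsPushout.isoIsPushout _ _ (CommRingCat.isPushout_tensorProduct Γ(X, U) (Sec i) R)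
    (isPushout_kap hU R i)

lemma cI_left (i : Idx f U P) (s : Sec i) :
    (cI hU R i).hom.hom (s ⊗ₜ[Γ(X, U)] (1 : R)) =
      ((pullback.fst f (bR hU R)).app i.V.1).hom s := by
  have h := IsPushout.inl_isoIsPushout_hom _ _
    (CommRingCat.isPushout_tensorProduct Γ(X, U) (Sec i) R) (isPushout_kap hU R i)
  exact congrArg (fun φ => φ.hom s) h

lemma cI_right (i : Idx f U P) (r : R) :
    (cI hU R i).hom.hom ((1 : Sec i) ⊗ₜ[Γ(X, U)] r) = (kap f hU R _).hom r := by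
  have h := IsPushout.inr_isoIsPushout_hom _ _
    (CommRingCat.isPushout_tensorProduct Γ(X, U) (Sec i) R) (isPushout_kap hU R i)
  exact congrArg (fun φ => φ.hom r) h

lemma cI_tmul (i : Idx f U P) (s : Sec i) (r : R) :
    (cI hU R i).hom.hom (s ⊗ₜ[Γ(X, U)] r) =
      ((pullback.fst f (bR hU R)).app i.V.1).hom s * (kap f hU R _).hom r := by
  rw [← cI_left, ← cI_right, ← map_mul]
  congr 1
  have := Algebra.TensorProduct.tmul_mul_tmul (R := Γ(X, U)) s (1 : Sec i) (1 : R) r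
  rw [mul_one, one_mul] at this
  exact this.symm

lemma kap_res {O O' : (YR f hU R).Opens} (h : O' ≤ O) (r : R) :
    ((YR f hU R).presheaf.map (homOfLE h).op).hom ((kap f hU R O).hom r) =
      (kap f hU R O').hom r := by
  have : kap f hU R O ≫ (YR f hU R).presheaf.map (homOfLE h).op = kap f hU R O' := by
    rw [kap, kap, Category.assoc, Scheme.Hom.appLE_map]
  exact congrArg (fun φ => φ.hom r) this

lemma cI_res {i j : Idx f U P} (h : j ≤ i) (t : Sec i ⊗[Γ(X, U)] R)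
    (h' : pre f hU R j.V.1 ≤ pre f hU R i.V.1) :
    (cI hU R j).hom.hom ((res h).toLinearMap.rTensor R t) =
      ((YR f hU R).presheaf.map (homOfLE h').op).hom ((cI hU R i).hom.hom t) := by
  induction t using TensorProduct.induction_on with
  | zero => rw [map_zero, map_zero, map_zero, map_zero]
  | add x y hx hy => rw [map_add, map_add, hx, hy, map_add, map_add]
  | tmul s r =>
    rw [LinearMap.rTensor_tmul, cI_tmul, cI_tmul, map_mul, kap_res]
    congr 1
    have h1 := Scheme.Hom.naturality (pullback.fst f (bR hU R)) (homOfLE (Idx.le_iff.mp h)).op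
    exact congrArg (fun φ => φ.hom s) h1

end const

theorem constAlg (hU : IsAffineOpen U)
    (hP : ∀ ⦃V V' : Y.affineOpens⦄, V'.1 ≤ V.1 → P V → P V')
    (hcov : ∀ y : Y, f y ∈ U → ∃ V : Y.affineOpens, P V ∧ y ∈ V.1)
    (hf : ∀ (T : Scheme.{u}) [IsAffine T] (b : T ⟶ X), IsIso (pullback.snd f b).appTop) :
    ConstAlg (B := Γ(X, U)) (ι := Idx f U P) Sec res := by
  intro R _ _ x hx
  have hcov' : ∀ (O : Y.Opens) (y : Y), f y ∈ U → y ∈ O → ∃ i : Idx f U P, y ∈ i.V.1 ∧ i.V.1 ≤ O := by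
    intro O y hy hyO
    obtain ⟨V, hV, hyV⟩ := hcov y hy
    obtain ⟨V', hV', hyV', hle⟩ := exists_isAffineOpen_mem_and_subset
      (U := V.1 ⊓ O ⊓ f ⁻¹ᵁ U) (x := y) ⟨⟨hyV, hyO⟩, hy⟩
    exact ⟨⟨⟨V', hV'⟩, hP (V := V) (hle.trans (inf_le_left.trans inf_le_left)) hV,
      hle.trans inf_le_right⟩, hyV', hle.trans (inf_le_left.trans inf_le_right)⟩
  have hmem : ∀ z : YR f hU R, f (pullback.fst f (bR hU R) z) ∈ U := fun z => by
    have h1 : f (pullback.fst f (bR hU R) z) = (bR hU R) (pullback.snd f (bR hU R) z) := by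
      rw [← Scheme.Hom.comp_apply, pullback.condition, Scheme.Hom.comp_apply]
    rw [h1]
    exact bR_le hU R (TopologicalSpace.Opens.mem_top _)
  let O : Idx f U P → (YR f hU R).Opens := fun i => pre f hU R i.V.1
  let s : ∀ i : Idx f U P, Γ(YR f hU R, O i) := fun i => (cI hU R i).hom.hom (x i)
  have hs : ∀ ⦃i j : Idx f U P⦄ (h : j ≤ i) (h' : O j ≤ O i),
      ((YR f hU R).presheaf.map (homOfLE h').op).hom (s i) = s j := fun i j h h' => by
    rw [← cI_res hU R h (x i) h', hx h]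
  have hcomp : TopCat.Presheaf.IsCompatible (YR f hU R).presheaf O s := by
    intro i j
    refine TopCat.Presheaf.IsSheaf.section_ext (YR f hU R).sheaf.2 fun z hz => ?_
    obtain ⟨k, hk, hle⟩ := hcov' (i.V.1 ⊓ j.V.1) (pullback.fst f (bR hU R) z) (hmem z) hz
    have hki : k ≤ i := hle.trans inf_le_left
    have hkj : k ≤ j := hle.trans inf_le_right
    have hkO : O k ≤ O i ⊓ O j := fun w hw => ⟨hki hw, hkj hw⟩
    refine ⟨O k, hkO, hk, ?_⟩
    have h1 := hs hki (hkO.trans inf_le_left)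
    have h2 := hs hkj (hkO.trans inf_le_right)
    have h3 : (YR f hU R).presheaf.map (homOfLE hkO).op
        ((YR f hU R).presheaf.map (homOfLE inf_le_left : O i ⊓ O j ⟶ O i).op (s i)) = s k := by
      rw [← h1]
      exact map_map_apply _ _ _
    have h4 : (YR f hU R).presheaf.map (homOfLE hkO).op
        ((YR f hU R).presheaf.map (homOfLE inf_le_right : O i ⊓ O j ⟶ O j).op (s j)) = s k := by
      rw [← h2]
      exact map_map_apply _ _ _
    exact h3.trans h4.symm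
  obtain ⟨g, hg, -⟩ := (YR f hU R).sheaf.existsUnique_gluing' O ⊤ (fun i => homOfLE le_top)
    (fun z _ => by
      obtain ⟨i, hi, -⟩ := hcov' ⊤ (pullback.fst f (bR hU R) z) (hmem z) (TopologicalSpace.Opens.mem_top _)
      exact TopologicalSpace.Opens.mem_iSup.2 ⟨i, hi⟩) s hcomp
  have : IsIso (pullback.snd f (bR hU R)).appTop := hf _ _
  have e : (pullback.snd f (bR hU R)).appLE ⊤ ⊤ le_top = (pullback.snd f (bR hU R)).appTop :=
    Scheme.Hom.appLE_eq_app _
  have : IsIso (kap f hU R ⊤) := by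
    have e' : kap f hU R ⊤ = (Scheme.ΓSpecIso (CommRingCat.of R)).inv ≫
      (pullback.snd f (bR hU R)).appTop := congrArg _ e
    rw [e']
    infer_instance
  refine ⟨(inv (kap f hU R ⊤)).hom g, fun i => ?_⟩
  have hinj : Function.Injective (cI hU R i).hom.hom :=
    ((ConcreteCategory.isIso_iff_bijective (cI hU R i).hom).mp inferInstance).1
  apply hinj
  rw [cI_right]
  have h5 : (kap f hU R ⊤).hom ((inv (kap f hU R ⊤)).hom g) = g := by
    have := IsIso.inv_hom_id (kap f hU R ⊤)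
    exact congrArg (fun φ => φ.hom g) this
  rw [← kap_res hU R (le_top : O i ≤ ⊤), h5]
  exact (hg i).symm

/-- The local statement. -/
theorem ideal_eq_map (hU : IsAffineOpen U)
    (hP : ∀ ⦃V V' : Y.affineOpens⦄, V'.1 ≤ V.1 → P V → P V')
    (hcov : ∀ y : Y, f y ∈ U → ∃ V : Y.affineOpens, P V ∧ y ∈ V.1)
    (hf : ∀ (T : Scheme.{u}) [IsAffine T] (b : T ⟶ X), IsIso (pullback.snd f b).appTop)
    (W : Y.IdealSheafData) {A : Type u} [CommRing A] (φ : A →+* Γ(X, U))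
    (hfl : ∀ i : Idx f U P,
      ((Ideal.Quotient.mk (W.ideal i.V)).comp ((f.appLE U i.V.1 i.le).hom.comp φ)).Flat)
    {a : Ideal A} (ha : IsNilpotent a)
    (h : ∃ I : Ideal Γ(X, U), a.map φ ≤ I ∧ ∀ i : Idx f U P,
      W.ideal i.V ⊔ a.map ((f.appLE U i.V.1 i.le).hom.comp φ) =
        I.map (f.appLE U i.V.1 i.le).hom)
    (i : Idx f U P) :
    W.ideal i.V = (⨅ j : Idx f U P, (W.ideal j.V).comap (f.appLE U j.V.1 j.le).hom).map
      (f.appLE U i.V.1 i.le).hom := by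
  let _ : Algebra A Γ(X, U) := φ.toAlgebra
  let _ : ∀ i : Idx f U P, Algebra A (Sec i) := fun i =>
    ((f.appLE U i.V.1 i.le).hom.comp φ).toAlgebra
  have : ∀ i : Idx f U P, IsScalarTower A Γ(X, U) (Sec i) := fun i =>
    IsScalarTower.of_algebraMap_eq' rfl
  refine eq_map_of_nilpotent (A := A) (B := Γ(X, U)) (E := Sec) (ρ := res)
    (K := fun i : Idx f U P => W.ideal i.V)
    (constMod_of_constAlg Sec res (constAlg hU hP hcov hf)) (fun i j h => ?_) hfl ha h i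
  exact W.ideal_le_comap_ideal (Idx.le_iff.mp h)

/-- Membership in the ideal of the scheme-theoretic image. -/
theorem mem_ideal_map [QuasiCompact f] (W : Y.IdealSheafData) (U : X.affineOpens) (b : Γ(X, U.1))
    (h : ∀ y : Y, f y ∈ U.1 → ∃ (V : Y.affineOpens) (e : V.1 ≤ f ⁻¹ᵁ U.1), y ∈ V.1 ∧
      (f.appLE U.1 V.1 e).hom b ∈ W.ideal V) :
    b ∈ (W.map f).ideal U := by
  rw [Scheme.IdealSheafData.map, Scheme.Hom.ker_apply, RingHom.mem_ker]
  refine TopCat.Presheaf.IsSheaf.section_ext W.subscheme.sheaf.2 fun z hz => ?_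
  obtain ⟨V, e, hyV, hb⟩ := h (W.subschemeι z) hz
  refine ⟨W.subschemeι ⁻¹ᵁ V.1, ?_, hyV, ?_⟩
  · exact fun w hw => e hw
  · have h1 : (W.subschemeι.app V.1).hom ((f.appLE U.1 V.1 e).hom b) = 0 := by
      rw [← W.ker_subschemeι_app V] at hb
      exact hb
    refine Eq.trans ?_ (h1.trans (map_zero (W.subscheme.presheaf.map _).hom).symm)
    have h2 : (W.subschemeι ≫ f).app U.1 ≫ W.subscheme.presheaf.map
        (homOfLE (show W.subschemeι ⁻¹ᵁ V.1 ≤ (W.subschemeι ≫ f) ⁻¹ᵁ U.1 from fun w hw => e hw)).op =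
        f.appLE U.1 V.1 e ≫ W.subschemeι.app V.1 := by
      rw [Scheme.Hom.app_eq_appLE, Scheme.Hom.app_eq_appLE, Scheme.Hom.appLE_map,
        Scheme.Hom.appLE_comp_appLE]
    exact congrArg (fun φ => φ.hom b) h2

section fg

theorem exists_fg_mem {A E : Type u} [CommRing A] [CommRing E] (N : Ideal A) (φ : A →+* E) {z : E}
    (hz : z ∈ N.map φ) : ∃ N' ≤ N, N'.FG ∧ z ∈ N'.map φ := by
  refine Submodule.span_induction (p := fun z _ => ∃ N' ≤ N, N'.FG ∧ z ∈ N'.map φ) ?_ ?_ ?_ ?_ hz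
  · rintro _ ⟨n, hn, rfl⟩
    exact ⟨Ideal.span {n}, (Ideal.span_singleton_le_iff_mem N).mpr hn, Submodule.fg_span_singleton n,
      Ideal.mem_map_of_mem _ (Ideal.mem_span_singleton_self n)⟩
  · exact ⟨⊥, bot_le, Submodule.fg_bot, zero_mem _⟩
  · rintro x y _ _ ⟨N₁, h1, h2, h3⟩ ⟨N₂, h4, h5, h6⟩
    exact ⟨N₁ ⊔ N₂, sup_le h1 h4, Submodule.FG.sup h2 h5,
      add_mem (Ideal.map_mono le_sup_left h3) (Ideal.map_mono le_sup_right h6)⟩
  · rintro c x _ ⟨N₁, h1, h2, h3⟩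
    exact ⟨N₁, h1, h2, Ideal.mul_mem_left _ _ h3⟩

theorem exists_fg_le {A E : Type u} [CommRing A] [CommRing E] (N : Ideal A) (φ : A →+* E)
    {K L : Ideal E} (hK : K.FG) (h : K ≤ L ⊔ N.map φ) :
    ∃ N' ≤ N, N'.FG ∧ K ≤ L ⊔ N'.map φ := by
  obtain ⟨s, rfl⟩ := hK
  have h1 : ∀ x : s, ∃ N' ≤ N, N'.FG ∧ (x : E) ∈ L ⊔ N'.map φ := by
    rintro ⟨x, hx⟩
    obtain ⟨l, hl, z, hz, hlz⟩ := Submodule.mem_sup.mp (h (Submodule.subset_span hx))
    obtain ⟨N', h2, h3, h4⟩ := exists_fg_mem N φ hz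
    refine ⟨N', h2, h3, ?_⟩
    change x ∈ L ⊔ N'.map φ
    rw [← hlz]
    exact add_mem (Ideal.mem_sup_left hl) (Ideal.mem_sup_right h4)
  choose N' h2 h3 h4 using h1
  refine ⟨⨆ x, N' x, iSup_le h2, Submodule.fg_iSup _ h3, ?_⟩
  rw [Submodule.span_le]
  intro x hx
  exact sup_le_sup_left (Ideal.map_mono (le_iSup N' ⟨x, hx⟩)) L (h4 ⟨x, hx⟩)

theorem exists_fg {A : Type u} [CommRing A] (N : Ideal A) {ι : Type*} [Finite ι] (E : ι → Type u)
    [∀ i, CommRing (E i)] (φ : ∀ i, A →+* E i) (K L : ∀ i, Ideal (E i)) (hK : ∀ i, (K i).FG)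
    (hL : ∀ i, (L i).FG) (h : ∀ i, K i ⊔ N.map (φ i) = L i ⊔ N.map (φ i)) :
    ∃ N₁ ≤ N, N₁.FG ∧ ∀ i, K i ⊔ N₁.map (φ i) = L i ⊔ N₁.map (φ i) := by
  choose N' h1 h2 h3 using fun i => exists_fg_le N (φ i) (hK i)
    (show K i ≤ L i ⊔ N.map (φ i) by rw [← h i]; exact le_sup_left)
  choose N'' h4 h5 h6 using fun i => exists_fg_le N (φ i) (hL i)
    (show L i ≤ K i ⊔ N.map (φ i) by rw [h i]; exact le_sup_left)
  refine ⟨(⨆ i, N' i) ⊔ ⨆ i, N'' i, sup_le (iSup_le h1) (iSup_le h4),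
    Submodule.FG.sup (Submodule.fg_iSup _ h2) (Submodule.fg_iSup _ h5), fun i => ?_⟩
  apply le_antisymm
  · refine sup_le ((h3 i).trans (sup_le_sup_left (Ideal.map_mono ?_) _)) le_sup_right
    exact (le_iSup N' i).trans le_sup_left
  · refine sup_le ((h6 i).trans (sup_le_sup_left (Ideal.map_mono ?_) _)) le_sup_right
    exact (le_iSup N'' i).trans le_sup_right

theorem exists_fg_map_eq {A E : Type u} [CommRing A] [CommRing E] (φ : A →+* E)
    (hφ : Function.Surjective φ) {J : Ideal E} (hJ : J.FG) : ∃ I : Ideal A, I.FG ∧ I.map φ = J := by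
  classical
  obtain ⟨s, rfl⟩ := hJ
  choose g hg using hφ
  refine ⟨Ideal.span (g '' s), ⟨s.image g, by rw [Finset.coe_image]⟩, ?_⟩
  rw [Ideal.map_span, ← Set.image_comp]
  congr 1
  ext x
  constructor
  · rintro ⟨y, hy, rfl⟩
    rwa [Function.comp_apply, hg]
  · exact fun hx => ⟨x, hx, hg x⟩

end fg

section main

variable {S : Scheme.{u}} (f : Y ⟶ X) (p : X ⟶ S)

/-- the square. -/
noncomputable abbrev g₀ : pullback (f ≫ p) S.nilradical.subschemeι ⟶
    pullback p S.nilradical.subschemeι :=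
  pullback.map (f ≫ p) S.nilradical.subschemeι p S.nilradical.subschemeι f (𝟙 _) (𝟙 S)
    (Category.comp_id _) ((Category.comp_id _).trans (Category.id_comp _).symm)

lemma g₀_fst : g₀ f p ≫ pullback.fst p S.nilradical.subschemeι =
    pullback.fst (f ≫ p) S.nilradical.subschemeι ≫ f :=
  pullback.lift_fst _ _ _

/-- modulo the nilradical. -/
theorem sup_nil_eq (W : Y.IdealSheafData) (Z₀ : (pullback p S.nilradical.subschemeι).IdealSheafData)
    (hW : W.comap (pullback.fst (f ≫ p) S.nilradical.subschemeι) = Z₀.comap (g₀ f p))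
    (US : S.affineOpens) (U : X.affineOpens) (hU : U.1 ≤ p ⁻¹ᵁ US.1) (I : Ideal Γ(X, U.1))
    (hI : I.map ((pullback.fst p S.nilradical.subschemeι).app U.1).hom =
      Z₀.ideal ⟨_, U.2.preimage (pullback.fst p S.nilradical.subschemeι)⟩)
    (V : Y.affineOpens) (e : V.1 ≤ f ⁻¹ᵁ U.1) :
    W.ideal V ⊔ (S.nilradical.ideal US).map ((f.appLE U.1 V.1 e).hom.comp (p.appLE US.1 U.1 hU).hom) =
      I.map (f.appLE U.1 V.1 e).hom ⊔
        (S.nilradical.ideal US).map ((f.appLE U.1 V.1 e).hom.comp (p.appLE US.1 U.1 hU).hom) := by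
  let i := S.nilradical.subschemeι
  let q : pullback p i ⟶ X := pullback.fst p i
  let r : pullback (f ≫ p) i ⟶ Y := pullback.fst (f ≫ p) i
  have e2 : V.1 ≤ (f ≫ p) ⁻¹ᵁ US.1 := e.trans (f.preimage_mono hU)
  have hs : Function.Surjective (r.app V.1).hom := r.app_surjective V.1 V.2
  have hk : RingHom.ker (r.app V.1).hom = (S.nilradical.ideal US).map
      ((f.appLE U.1 V.1 e).hom.comp (p.appLE US.1 U.1 hU).hom) := by
    rw [← Scheme.Hom.ker_apply]
    change (S.nilradical.comap (f ≫ p)).ideal V = _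
    rw [Groth.Agent.Divis.IdealComap.ideal_comap _ _ US V e2, ← CommRingCat.hom_comp,
      Scheme.Hom.appLE_comp_appLE]
  rw [← hk, ← Ideal.comap_map_of_surjective' _ hs, ← Ideal.comap_map_of_surjective' _ hs]
  congr 1
  have e3 : r ⁻¹ᵁ V.1 ≤ (g₀ f p) ⁻¹ᵁ (q ⁻¹ᵁ U.1) := by
    rw [← Scheme.Hom.comp_preimage, g₀_fst, Scheme.Hom.comp_preimage]
    exact Scheme.Hom.preimage_mono _ e
  have h1 := congrArg (fun J => J.ideal ⟨r ⁻¹ᵁ V.1, V.2.preimage r⟩) hW
  dsimp only at h1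
  rw [Groth.Agent.Divis.IdealComap.ideal_comap _ _ V ⟨r ⁻¹ᵁ V.1, V.2.preimage r⟩ le_rfl,
    Groth.Agent.Divis.IdealComap.ideal_comap _ _ ⟨q ⁻¹ᵁ U.1, U.2.preimage q⟩
      ⟨r ⁻¹ᵁ V.1, V.2.preimage r⟩ e3, ← hI, Ideal.map_map, ← CommRingCat.hom_comp] at h1
  rw [Scheme.Hom.app_eq_appLE, h1, Scheme.Hom.app_eq_appLE, Scheme.Hom.appLE_comp_appLE,
    Ideal.map_map, ← CommRingCat.hom_comp, Scheme.Hom.appLE_comp_appLE]
  congr 2
  congr 1
  exact g₀_fst f p

/-- `W` descends to `X`. -/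
theorem comap_map_eq [QuasiCompact f]
    (hf : ∀ (T : Scheme.{u}) [IsAffine T] (b : T ⟶ X), IsIso (pullback.snd f b).appTop)
    (W : Y.IdealSheafData) (hWfl : Flat (W.subschemeι ≫ f ≫ p)) (hWfg : ∀ V, (W.ideal V).FG)
    (Z₀ : (pullback p S.nilradical.subschemeι).IdealSheafData) (hZ₀ : ∀ U, (Z₀.ideal U).FG)
    (hW : W.comap (pullback.fst (f ≫ p) S.nilradical.subschemeι) = Z₀.comap (g₀ f p)) :
    (W.map f).comap f = W := by
  refine le_antisymm (Scheme.IdealSheafData.comap_map_le _ _) ?_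
  have key : ∀ y : Y, ∃ V : Y.affineOpens, y ∈ V.1 ∧ W.ideal V ≤ ((W.map f).comap f).ideal V := by
    intro y
    obtain ⟨US, hUS, hyUS, -⟩ := exists_isAffineOpen_mem_and_subset (U := (⊤ : S.Opens))
      (x := p (f y)) trivial
    obtain ⟨U, hU, hyU, hUp⟩ := exists_isAffineOpen_mem_and_subset (U := p ⁻¹ᵁ US) (x := f y) hyUS
    obtain ⟨s, hs, hsU⟩ := (isCompact_iff_finite_and_eq_biUnion_affineOpens (U := f ⁻¹ᵁ U)).mp
      (f.isCompact_preimage hU.isCompact)
    have hsle : ∀ V ∈ s, V.1 ≤ f ⁻¹ᵁ U := fun V hV => by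
      rw [hsU]
      exact le_iSup₂_of_le V hV le_rfl
    let P : Y.affineOpens → Prop := fun V => ∃ V' ∈ s, V.1 ≤ V'.1
    have hPle : ∀ V, P V → V.1 ≤ f ⁻¹ᵁ U := by
      rintro V ⟨V', hV', hle⟩
      exact hle.trans (hsle V' hV')
    have hP : ∀ ⦃V V' : Y.affineOpens⦄, V'.1 ≤ V.1 → P V → P V' := by
      rintro V V' h ⟨V'', hV'', hle⟩
      exact ⟨V'', hV'', h.trans hle⟩
    have hcov : ∀ y : Y, f y ∈ U → ∃ V : Y.affineOpens, P V ∧ y ∈ V.1 := by
      intro y hy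
      have h1 : y ∈ f ⁻¹ᵁ U := hy
      rw [hsU, TopologicalSpace.Opens.mem_iSup] at h1
      obtain ⟨V, hV⟩ := h1
      rw [TopologicalSpace.Opens.mem_iSup] at hV
      obtain ⟨hVs, hyV⟩ := hV
      exact ⟨V, ⟨V, hVs, le_rfl⟩, hyV⟩
    let US' : S.affineOpens := ⟨US, hUS⟩
    let U' : X.affineOpens := ⟨U, hU⟩
    let φ : Γ(S, US) →+* Γ(X, U) := (p.appLE US U hUp).hom
    obtain ⟨I₁, hI₁, hI₁Z⟩ := exists_fg_map_eq ((pullback.fst p S.nilradical.subschemeι).app U).hom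
      ((pullback.fst p S.nilradical.subschemeι).app_surjective U hU)
      (hZ₀ ⟨_, hU.preimage (pullback.fst p S.nilradical.subschemeι)⟩)
    have hnil := sup_nil_eq f p W Z₀ hW US' U' hUp I₁ hI₁Z
    have := hs.to_subtype
    obtain ⟨N₁, hN₁, hN₁fg, hN₁eq⟩ := exists_fg (S.nilradical.ideal US')
      (fun V : s => Γ(Y, V.1.1)) (fun V => (f.appLE U V.1.1 (hsle _ V.2)).hom.comp φ)
      (fun V => W.ideal V.1) (fun V => I₁.map (f.appLE U V.1.1 (hsle _ V.2)).hom)
      (fun V => hWfg _) (fun V => Ideal.FG.map hI₁ _) (fun V => hnil V.1 (hsle _ V.2))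
    have hnilp : IsNilpotent N₁ := by
      rw [hN₁fg.isNilpotent_iff_le_nilradical]
      exact hN₁
    have hmain := ideal_eq_map (f := f) (U := U) (P := P) hU hP hcov hf W φ (fun i => ?_) hnilp
      ⟨I₁ ⊔ N₁.map φ, le_sup_right, fun i => ?_⟩
    · obtain ⟨V, hPV, hyV⟩ := hcov y hyU
      refine ⟨V, hyV, ?_⟩
      have h2 := hmain ⟨V, hPV, hPle V hPV⟩
      rw [Groth.Agent.Divis.IdealComap.ideal_comap _ _ U' V (hPle V hPV)]
      refine (le_of_eq h2).trans (Ideal.map_mono fun b hb => ?_)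
      refine mem_ideal_map W U' b fun z hz => ?_
      obtain ⟨V₁, hPV₁, hzV₁⟩ := hcov z hz
      rw [Ideal.mem_iInf] at hb
      exact ⟨V₁, hPle _ hPV₁, hzV₁, hb ⟨V₁, hPV₁, hPle _ hPV₁⟩⟩
    · have h3 := Groth.Agent.Flat2D.PicZSch.flat_quotient_appLE (f ≫ p) W hUS i.V
        (i.le.trans (f.preimage_mono hUp))
      have h4 : ((f ≫ p).appLE US i.V.1 (i.le.trans (f.preimage_mono hUp))).hom =
          (f.appLE U i.V.1 i.le).hom.comp φ := by
        rw [← CommRingCat.hom_comp, Scheme.Hom.appLE_comp_appLE]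
      rw [h4] at h3
      exact h3
    · obtain ⟨V', hV', hle⟩ := i.hV
      have h5 := hN₁eq ⟨V', hV'⟩
      dsimp only at h5
      have h6 := congrArg (Ideal.map (Y.presheaf.map (homOfLE hle).op).hom) h5
      have h7 : (Y.presheaf.map (homOfLE hle).op).hom.comp
          (f.appLE U V'.1 (hsle _ hV')).hom = (f.appLE U i.V.1 i.le).hom := by
        rw [← CommRingCat.hom_comp, Scheme.Hom.appLE_map]
      have h8 : (Y.presheaf.map (homOfLE hle).op).hom.comp
          ((f.appLE U V'.1 (hsle _ hV')).hom.comp φ) = (f.appLE U i.V.1 i.le).hom.comp φ := by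
        rw [← RingHom.comp_assoc, h7]
      rw [Ideal.map_sup, Ideal.map_sup, Ideal.map_map, Ideal.map_map, h7, h8] at h6
      rw [Ideal.map_sup, Ideal.map_map, ← h6, ← W.map_ideal (U := i.V) (V := V') hle]
      rfl
  choose V hV hVle using key
  refine Scheme.IdealSheafData.le_of_iSup_eq_top V ?_ hVle
  rw [eq_top_iff]
  exact fun y _ => TopologicalSpace.Opens.mem_iSup.mpr ⟨y, hV y⟩

end main

end FamCyc.K812.RigidGeo
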