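import Groth.Prelude.Def_EGA4b
import Groth.Prelude.Def_CAlg
import Groth.Agent.S2085
import Mathlib.RingTheory.Artinian.Ring
import Mathlib.RingTheory.Flat.EquationalCriterion
import Mathlib.RingTheory.Ideal.KrullsHeightTheorem
import Mathlib.RingTheory.Ideal.MinimalPrime.Noetherian
import Mathlib.RingTheory.Flat.Tensor
import Mathlib.RingTheory.HopkinsLevitzki

/-!
# Flatness over an Artinian local ring from codimension one

Let `A` be an Artinian local ring with maximal ideal `m`, `B` a Noetherian `A`-algebra satisfying (S₁) whose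
reduction satisfies (S₂), flat with reduced fibre at the primes of height at most one.  Then `mB` is the
nilradical of `B` and `B` is flat over `A`.  The proof is an induction over the ideals of `A`, one socle
element at a time: for `t ∉ I`, `m t ⊆ I`, the ideal `(I B : t)` is the nilradical `N`, so that
`(I + t) B / I B ≅ B / N` satisfies (S₂) and `B / (I + t) B` has no embedded primes.
-/

set_option autoImplicit false

universe u v

namespace K812.ArtinFlat

open IsLocalRing

section Socle

variable {A : Type u} [CommRing A] [IsArtinianRing A] [IsLocalRing A]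

theorem exists_socle {I K : Ideal A} (h : I < K) :
    ∃ t ∈ K, t ∉ I ∧ ∀ a ∈ maximalIdeal A, a * t ∈ I := by
  classical
  obtain ⟨n, hn⟩ : IsNilpotent (maximalIdeal A) :=
    (isArtinianRing_iff_isNilpotent_maximalIdeal A).mp inferInstance
  have hex : ∃ k : ℕ, maximalIdeal A ^ k * K ≤ I := ⟨n, by rw [hn]; simp⟩
  have hk := Nat.find_spec hex
  have hk0 : Nat.find hex ≠ 0 := by
    intro h0
    rw [h0, pow_zero, one_mul] at hk
    exact absurd h (not_lt_of_ge hk)
  obtain ⟨k, hk'⟩ := Nat.exists_eq_succ_of_ne_zero hk0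
  have hlt : ¬ (maximalIdeal A ^ k * K ≤ I) := Nat.find_min hex (by omega)
  obtain ⟨t, ht, htI⟩ := Set.not_subset.mp hlt
  refine ⟨t, Ideal.mul_le_right ht, htI, fun a ha => hk ?_⟩
  rw [hk', pow_succ', mul_assoc]
  exact Ideal.mul_mem_mul ha ht

end Socle

section Colon

variable {A : Type u} {C : Type v} [CommRing A] [CommRing C] [Algebra A C]

theorem exists_sum_of_mem_map {I : Ideal A} {c : C} (h : c ∈ I.map (algebraMap A C)) :
    ∃ (n : ℕ) (i : Fin n → A) (d : Fin n → C), (∀ k, i k ∈ I) ∧ c = ∑ k, i k • d k := by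
  rw [Ideal.map, Ideal.span, Submodule.mem_span_set'] at h
  obtain ⟨n, f, g, hfg⟩ := h
  choose i hi hig using fun k => (g k).2
  refine ⟨n, i, f, hi, ?_⟩
  rw [← hfg]
  refine Finset.sum_congr rfl fun k _ => ?_
  rw [Algebra.smul_def (i k) (f k), hig, smul_eq_mul, mul_comm]

/-- If `C` is flat over `A` and `t c ∈ I C` then `c ∈ J C` for every ideal `J` containing `(I : t)`. -/
theorem mem_map_of_flat [Module.Flat A C] {I J : Ideal A} {t : A} (hJ : ∀ a, t * a ∈ I → a ∈ J) {c : C}
    (h : algebraMap A C t * c ∈ I.map (algebraMap A C)) : c ∈ J.map (algebraMap A C) := by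
  obtain ⟨n, i, d, hi, hs⟩ := exists_sum_of_mem_map h
  have hrel : ∑ k : Option (Fin n), (Option.elim k t (fun k => - i k)) • (Option.elim k c d) = 0 := by
    rw [Fintype.sum_option]
    simp only [Option.elim_none, Option.elim_some, neg_smul, Finset.sum_neg_distrib]
    rw [← hs, Algebra.smul_def]
    exact add_neg_cancel _
  obtain ⟨k', a, y, hxy, ha⟩ := Module.Flat.isTrivialRelation_of_sum_smul_eq_zero hrel
  have h1 := hxy none
  simp only [Option.elim_none] at h1
  rw [h1]
  refine Ideal.sum_mem _ fun j _ => ?_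
  rw [Algebra.smul_def]
  refine Ideal.mul_mem_right _ _ (Ideal.mem_map_of_mem _ (hJ _ ?_))
  have h2 := ha j
  rw [Fintype.sum_option] at h2
  simp only [Option.elim_none, Option.elim_some, neg_mul, Finset.sum_neg_distrib] at h2
  rw [add_neg_eq_zero.mp h2]
  exact Ideal.sum_mem _ fun k _ => Ideal.mul_mem_right _ _ (hi k)

variable [IsLocalRing A]

theorem mem_map_maximalIdeal_of_flat [Module.Flat A C] {I : Ideal A} {t : A} (ht : t ∉ I) {c : C}
    (h : algebraMap A C t * c ∈ I.map (algebraMap A C)) :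
    c ∈ (maximalIdeal A).map (algebraMap A C) := by
  refine mem_map_of_flat (I := I) (t := t) (fun a ha => ?_) h
  rw [mem_maximalIdeal, mem_nonunits_iff]
  intro hu
  apply ht
  obtain ⟨u, rfl⟩ := hu
  have := I.mul_mem_right (↑u⁻¹ : A) ha
  rwa [mul_assoc, Units.mul_inv, mul_one] at this

/-- `x` regular on the closed fibre of a flat algebra over an Artinian local ring is regular modulo every ideal
of the base. -/
theorem mem_map_of_regular_fibre [IsArtinianRing A] [Module.Flat A C] (x : C)
    (hx : ∀ c : C, x * c ∈ (maximalIdeal A).map (algebraMap A C) → c ∈ (maximalIdeal A).map (algebraMap A C))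
    (I : Ideal A) : ∀ c : C, x * c ∈ I.map (algebraMap A C) → c ∈ I.map (algebraMap A C) := by
  induction I using IsNoetherian.induction with
  | hgt I ih =>
    intro c hc
    by_cases hI : I = ⊤
    · rw [hI, Ideal.map_top]; trivial
    obtain ⟨t, -, htI, hmt⟩ := exists_socle (lt_top_iff_ne_top.mpr hI)
    have hlt : I < I ⊔ Ideal.span {t} := by
      refine lt_of_le_of_ne le_sup_left fun heq => htI ?_
      rw [heq]
      exact Ideal.mem_sup_right (Ideal.mem_span_singleton_self t)
    have h1 := ih _ hlt c (Ideal.map_mono le_sup_left hc)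
    have h1' : c ∈ Ideal.map (algebraMap A C) I ⊔ Ideal.span {algebraMap A C t} := by
      rwa [← Set.image_singleton, ← Ideal.map_span, ← Ideal.map_sup]
    obtain ⟨i, hi, z, hz, rfl⟩ := Submodule.mem_sup.mp h1'
    obtain ⟨d, rfl⟩ := Ideal.mem_span_singleton'.mp hz
    have h2 : algebraMap A C t * (x * d) ∈ Ideal.map (algebraMap A C) I := by
      have h3 := Ideal.sub_mem _ hc (Ideal.mul_mem_left _ x hi)
      have h4 : x * (i + d * algebraMap A C t) - x * i = algebraMap A C t * (x * d) := by ring
      rwa [h4] at h3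
    have h5 := hx _ (mem_map_maximalIdeal_of_flat htI h2)
    refine Ideal.add_mem _ hi ?_
    have h6 : (maximalIdeal A).map (algebraMap A C) * Ideal.span {algebraMap A C t} ≤ Ideal.map (algebraMap A C) I := by
      rw [← Set.image_singleton, ← Ideal.map_span, ← Ideal.map_mul]
      refine Ideal.map_mono ?_
      rw [Ideal.mul_le]
      intro r hr s hs
      obtain ⟨e, rfl⟩ := Ideal.mem_span_singleton'.mp hs
      have := Ideal.mul_mem_left I e (hmt r hr)
      have h7 : e * (r * t) = r * (e * t) := by ring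
      rwa [h7] at this
    exact h6 (Ideal.mul_mem_mul h5 (Ideal.mem_span_singleton_self _))

end Colon

section Ass

variable {B : Type u} [CommRing B] [IsNoetherianRing B]

theorem exists_ass (J : Ideal B) (b : B) (hb : b ∉ J) :
    ∃ P ∈ associatedPrimes B (B ⧸ J), ∀ u, u * b ∈ J → u ∈ P := by
  obtain ⟨P, hP, hle⟩ := exists_le_isAssociatedPrime_of_isNoetherianRing B (Ideal.Quotient.mk J b)
    (fun h => hb (Ideal.Quotient.eq_zero_iff_mem.mp h))
  refine ⟨P, hP, fun u hu => hle ?_⟩
  rw [Submodule.mem_colon_singleton, Submodule.mem_bot, Algebra.smul_def, Ideal.Quotient.algebraMap_eq,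
    ← map_mul]
  exact Ideal.Quotient.eq_zero_iff_mem.mpr hu

/-- If `B / J` has no embedded primes over the minimal primes of `B`, membership in `J` is checked at the
minimal primes of `B`. -/
theorem mem_of_minimalPrimes {J : Ideal B} (hJ : ∀ p ∈ associatedPrimes B (B ⧸ J), p ∈ minimalPrimes B)
    {b : B} (hb : ∀ q ∈ minimalPrimes B, ∃ u ∉ q, u * b ∈ J) : b ∈ J := by
  by_contra hbJ
  obtain ⟨P, hP, hu⟩ := exists_ass J b hbJ
  obtain ⟨u, huP, hub⟩ := hb P (hJ P hP)
  exact huP (hu u hub)

theorem mem_of_regular {J : Ideal B} (hJ : ∀ p ∈ associatedPrimes B (B ⧸ J), p ∈ minimalPrimes B)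
    {x : B} (hx : ∀ q ∈ minimalPrimes B, x ∉ q) {b : B} (hb : x * b ∈ J) : b ∈ J :=
  mem_of_minimalPrimes hJ fun q hq => ⟨x, hx q hq, hb⟩

omit [IsNoetherianRing B] in
theorem mem_nilradical_iff_minimalPrimes {b : B} : b ∈ nilradical B ↔ ∀ q ∈ minimalPrimes B, b ∈ q := by
  rw [mem_nilradical, nilpotent_iff_mem_prime]
  refine ⟨fun h q hq => h q hq.1.1, fun h J hJ => ?_⟩
  obtain ⟨p, hp, hle⟩ := Ideal.exists_minimalPrimes_le (I := (⊥ : Ideal B)) (J := J) bot_le
  exact hle (h p hp)

theorem exists_notMem_minimalPrimes {p : Ideal B} [hp : p.IsPrime] (hmin : p ∉ minimalPrimes B) :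
    ∃ x ∈ p, ∀ q ∈ minimalPrimes B, x ∉ q := by
  by_contra hcon
  push Not at hcon
  have hsub : (p : Set B) ⊆ ⋃ q ∈ minimalPrimes B, ((id q : Ideal B) : Set B) := by
    intro x hx
    obtain ⟨q, hq, hxq⟩ := hcon x hx
    exact Set.mem_biUnion hq hxq
  rw [Ideal.subset_union_prime_finite (minimalPrimes.finite_of_isNoetherianRing B) (f := id) 0 0
    (fun q hq _ _ => hq.1.1)] at hsub
  obtain ⟨q, hq, hle⟩ := hsub
  have : p = q := le_antisymm hle (hq.2 ⟨hp, bot_le⟩ hle)
  exact hmin (this ▸ hq)

omit [IsNoetherianRing B] in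
theorem height_pos_or {p : Ideal B} [hp : p.IsPrime] (hmin : p ∈ minimalPrimes B) : p.height ≤ 1 := by
  have h0 : p.height = 0 := by
    rw [Ideal.height_eq_zero_iff]
    exact hmin
  rw [h0]
  exact zero_le_one

/-- (S₂) for a reduced quotient: if `x` is in no minimal prime then an element `b` multiplied into `x B + N` by a
prime of height at least two is in `x B + N`. -/
theorem mem_sup_of_hasSk_two (hS2 : LocCoh.HasSk 2 (B ⧸ nilradical B) (B ⧸ nilradical B)) {x : B}
    (hx : ∀ q ∈ minimalPrimes B, x ∉ q) (p : Ideal B) (hp : 1 < p.height) {b : B}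
    (hb : ∀ y ∈ p, y * b ∈ Ideal.span {x} ⊔ nilradical B) : b ∈ Ideal.span {x} ⊔ nilradical B := by
  let R := B ⧸ nilradical B
  let x' : R := Ideal.Quotient.mk _ x
  have hreg : IsSMulRegular R x' := by
    refine isSMulRegular_iff_right_eq_zero_of_smul.mpr fun r hr => ?_
    obtain ⟨r, rfl⟩ := Ideal.Quotient.mk_surjective r
    rw [smul_eq_mul, ← map_mul, Ideal.Quotient.eq_zero_iff_mem, mem_nilradical_iff_minimalPrimes] at hr
    rw [Ideal.Quotient.eq_zero_iff_mem, mem_nilradical_iff_minimalPrimes]
    intro q hq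
    have hqp : q.IsPrime := hq.1.1
    exact (hqp.mem_or_mem (hr q hq)).resolve_left (hx q hq)
  have hS1 : LocCoh.HasSk 1 R (QuotSMulTop x' R) := Groth.Agent.Ega4B.DepthBasic.hasSk_quotSMulTop 1 R hS2 x' hreg
  have hass := (Groth.Agent.S2085.result (R := R) (M := QuotSMulTop x' R)).mpr hS1
  by_contra hbn
  let z : QuotSMulTop x' R := Submodule.Quotient.mk (Ideal.Quotient.mk _ b)
  have hmem : ∀ c : B, (Submodule.Quotient.mk (Ideal.Quotient.mk (nilradical B) c) : QuotSMulTop x' R) = 0 ↔
      c ∈ Ideal.span {x} ⊔ nilradical B := by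
    intro c
    rw [Submodule.Quotient.mk_eq_zero, ← SetLike.mem_coe, Submodule.coe_pointwise_smul]
    constructor
    · rintro ⟨r, -, hr⟩
      obtain ⟨r, rfl⟩ := Ideal.Quotient.mk_surjective r
      have hr' : Ideal.Quotient.mk (nilradical B) (x * r) = Ideal.Quotient.mk (nilradical B) c := by
        rw [map_mul]; exact hr
      rw [Ideal.Quotient.mk_eq_mk_iff_sub_mem] at hr'
      have : c = x * r - (x * r - c) := by ring
      rw [this]
      exact Ideal.sub_mem _ (Ideal.mem_sup_left (Ideal.mul_mem_right _ _ (Ideal.mem_span_singleton_self x)))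
        (Ideal.mem_sup_right hr')
    · intro hc
      obtain ⟨a, ha, n, hn, rfl⟩ := Submodule.mem_sup.mp hc
      obtain ⟨e, rfl⟩ := Ideal.mem_span_singleton'.mp ha
      refine ⟨Ideal.Quotient.mk _ e, trivial, ?_⟩
      change x' • (Ideal.Quotient.mk (nilradical B) e) = _
      rw [map_add, Ideal.Quotient.eq_zero_iff_mem.mpr hn, add_zero, smul_eq_mul, ← map_mul, mul_comm]
  have hz : z ≠ 0 := fun h => hbn ((hmem b).mp h)
  obtain ⟨P, hP, hle⟩ := exists_le_isAssociatedPrime_of_isNoetherianRing R z hz
  have hPmin := hass P hP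
  have hPp : P.IsPrime := hP.1
  let Q : Ideal B := P.comap (Ideal.Quotient.mk (nilradical B))
  have hQp : Q.IsPrime := Ideal.comap_isPrime _ _
  have hpQ : p ≤ Q := by
    intro y hy
    rw [Ideal.mem_comap]
    apply hle
    rw [Submodule.mem_colon_singleton, Submodule.mem_bot]
    exact (hmem (y * b)).mpr (hb y hy)
  have hQmin : Q ∈ (Ideal.span {x}).minimalPrimes := by
    have hann : ∀ r : R, r ∈ Module.annihilator R (QuotSMulTop x' R) → ∃ s, r = x' * s := by
      intro r hr
      rw [Module.mem_annihilator] at hr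
      have h1 := hr (Submodule.Quotient.mk (1 : R))
      obtain ⟨r, rfl⟩ := Ideal.Quotient.mk_surjective r
      have h2 : (Submodule.Quotient.mk (Ideal.Quotient.mk (nilradical B) r) : QuotSMulTop x' R) = 0 := by
        rw [← h1]
        change _ = Submodule.Quotient.mk ((Ideal.Quotient.mk (nilradical B) r) • (1 : R))
        rw [smul_eq_mul, mul_one]
      rw [hmem] at h2
      obtain ⟨a, ha, n, hn, rfl⟩ := Submodule.mem_sup.mp h2
      obtain ⟨e, rfl⟩ := Ideal.mem_span_singleton'.mp ha
      refine ⟨Ideal.Quotient.mk _ e, ?_⟩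
      rw [map_add, Ideal.Quotient.eq_zero_iff_mem.mpr hn, add_zero, ← map_mul, mul_comm]
    refine ⟨⟨hQp, ?_⟩, ?_⟩
    · rw [Ideal.span_singleton_le_iff_mem]
      change x' ∈ P
      apply hPmin.1.2
      rw [Module.mem_annihilator]
      intro m
      induction m using Submodule.Quotient.induction_on with
      | _ m =>
      obtain ⟨m, rfl⟩ := Ideal.Quotient.mk_surjective m
      rw [← Submodule.Quotient.mk_smul, smul_eq_mul, ← map_mul, hmem]
      exact Ideal.mem_sup_left (Ideal.mul_mem_right _ _ (Ideal.mem_span_singleton_self x))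
    · rintro Q' ⟨hQ'p, hxQ'⟩ hle'
      have hN : nilradical B ≤ Q' := by
        intro n hn
        rw [mem_nilradical, nilpotent_iff_mem_prime] at hn
        exact hn Q' hQ'p
      let P' : Ideal R := Q'.map (Ideal.Quotient.mk (nilradical B))
      have hP'c : P'.comap (Ideal.Quotient.mk (nilradical B)) = Q' := by
        rw [Ideal.comap_map_of_surjective' _ Ideal.Quotient.mk_surjective, Ideal.mk_ker]
        exact sup_eq_left.mpr hN
      have hP'p : P'.IsPrime := Ideal.map_isPrime_of_surjective Ideal.Quotient.mk_surjective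
        (by rw [Ideal.mk_ker]; exact hN)
      have hP'P : P' ≤ P := Ideal.map_le_iff_le_comap.mpr hle'
      have hannP' : Module.annihilator R (QuotSMulTop x' R) ≤ P' := by
        intro r hr
        obtain ⟨s, rfl⟩ := hann r hr
        refine Ideal.mul_mem_right _ _ (Ideal.mem_map_of_mem _ (hxQ' (Ideal.mem_span_singleton_self x)))
      have := hPmin.2 ⟨hP'p, hannP'⟩ hP'P
      calc Q ≤ P'.comap (Ideal.Quotient.mk (nilradical B)) := Ideal.comap_mono this
        _ = Q' := hP'c
  have h1 := Ideal.height_le_one_of_isPrincipal_of_mem_minimalPrimes (Ideal.span {x}) Q hQmin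
  have h2 : p.height ≤ Q.height := Ideal.height_mono hpQ
  exact absurd (hp.trans_le (h2.trans h1)) (lt_irrefl _)

end Ass

section Main

variable {A : Type u} [CommRing A] [IsArtinianRing A] [IsLocalRing A]
variable {B : Type u} [CommRing B] [Algebra A B] [IsNoetherianRing B]

omit [IsNoetherianRing B] in
theorem comap_eq (q : Ideal B) [q.IsPrime] : q.comap (algebraMap A B) = maximalIdeal A :=
  eq_maximalIdeal ((IsArtinianRing.isPrime_iff_isMaximal _).mp (Ideal.comap_isPrime _ _))

omit [IsNoetherianRing B] in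
theorem algebraMap_mem (q : Ideal B) [q.IsPrime] {a : A} (ha : a ∈ maximalIdeal A) : algebraMap A B a ∈ q := by
  rw [← comap_eq q, Ideal.mem_comap] at ha
  exact ha

omit [IsNoetherianRing B] in
theorem map_maximalIdeal_le_nilradical : (maximalIdeal A).map (algebraMap A B) ≤ nilradical B := by
  rw [Ideal.map_le_iff_le_comap]
  intro a ha
  rw [Ideal.mem_comap, mem_nilradical, nilpotent_iff_mem_prime]
  intro J hJ
  exact algebraMap_mem J ha

omit [IsArtinianRing A] [IsLocalRing A] [IsNoetherianRing B] in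
theorem mem_map_localization_iff (q : Ideal B) [q.IsPrime] (I : Ideal A) (b : B) :
    algebraMap B (Localization.AtPrime q) b ∈ I.map (algebraMap A (Localization.AtPrime q)) ↔
      ∃ u ∉ q, u * b ∈ I.map (algebraMap A B) := by
  rw [IsScalarTower.algebraMap_eq A B (Localization.AtPrime q), ← Ideal.map_map,
    IsLocalization.algebraMap_mem_map_algebraMap_iff q.primeCompl]
  exact Iff.rfl

/-- The hypotheses of the theorem. -/
structure Hyp (A : Type u) [CommRing A] [IsArtinianRing A] [IsLocalRing A] (B : Type u) [CommRing B]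
    [Algebra A B] : Prop where
  ass : ∀ p ∈ associatedPrimes B B, p ∈ minimalPrimes B
  hS2 : LocCoh.HasSk 2 (B ⧸ nilradical B) (B ⧸ nilradical B)
  flat : ∀ (q : Ideal B) [q.IsPrime], q.height ≤ 1 → Module.Flat A (Localization.AtPrime q)
  red : ∀ (q : Ideal B) [q.IsPrime], q.height ≤ 1 → ∀ b ∈ nilradical B,
    algebraMap B (Localization.AtPrime q) b ∈ (maximalIdeal A).map (algebraMap A (Localization.AtPrime q))

omit [IsNoetherianRing B] in
theorem red_of (q : Ideal B) [q.IsPrime] (h : IsReduced (EGA4.FibLocRing A B q)) (b : B)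
    (hb : b ∈ nilradical B) :
    algebraMap B (Localization.AtPrime q) b ∈ (maximalIdeal A).map (algebraMap A (Localization.AtPrime q)) := by
  rw [← comap_eq q, ← Ideal.Quotient.eq_zero_iff_mem]
  apply h.eq_zero
  exact ((mem_nilradical.mp hb).map (algebraMap B (Localization.AtPrime q))).map (Ideal.Quotient.mk _)

/-- No embedded primes modulo `I B`. -/
def Unm (B : Type u) [CommRing B] [Algebra A B] (I : Ideal A) : Prop :=
  ∀ p ∈ associatedPrimes B (B ⧸ I.map (algebraMap A B)), p ∈ minimalPrimes B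

omit [IsNoetherianRing B] in
theorem mem_nilradical_of_mul_mem (H : Hyp A B) {I : Ideal A} {t : A} (ht : t ∉ I) {b : B}
    (h : algebraMap A B t * b ∈ I.map (algebraMap A B)) : b ∈ nilradical B := by
  rw [mem_nilradical_iff_minimalPrimes]
  intro q hq
  have hqp : q.IsPrime := hq.1.1
  have hfl := H.flat q (height_pos_or hq)
  have h1 : algebraMap A (Localization.AtPrime q) t * algebraMap B (Localization.AtPrime q) b ∈
      I.map (algebraMap A (Localization.AtPrime q)) := by
    rw [IsScalarTower.algebraMap_eq A B (Localization.AtPrime q), RingHom.comp_apply, ← map_mul, ← Ideal.map_map]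
    exact Ideal.mem_map_of_mem _ h
  have h2 := mem_map_maximalIdeal_of_flat ht h1
  rw [mem_map_localization_iff] at h2
  obtain ⟨u, hu, hub⟩ := h2
  have h3 : u * b ∈ q := by
    have := map_maximalIdeal_le_nilradical hub
    rw [mem_nilradical_iff_minimalPrimes] at this
    exact this q hq
  exact (hqp.mem_or_mem h3).resolve_left hu

omit [IsArtinianRing A] [IsNoetherianRing B] in
theorem mul_mem_of_mem_map {I : Ideal A} {t : A} (hmt : ∀ a ∈ maximalIdeal A, a * t ∈ I) {b : B}
    (hb : b ∈ (maximalIdeal A).map (algebraMap A B)) : algebraMap A B t * b ∈ I.map (algebraMap A B) := by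
  have h6 : (maximalIdeal A).map (algebraMap A B) * Ideal.span {algebraMap A B t} ≤ I.map (algebraMap A B) := by
    rw [← Set.image_singleton, ← Ideal.map_span, ← Ideal.map_mul]
    refine Ideal.map_mono ?_
    rw [Ideal.mul_le]
    intro r hr s hs
    obtain ⟨e, rfl⟩ := Ideal.mem_span_singleton'.mp hs
    have := Ideal.mul_mem_left I e (hmt r hr)
    have h7 : e * (r * t) = r * (e * t) := by ring
    rwa [h7] at this
  rw [mul_comm]
  exact h6 (Ideal.mul_mem_mul hb (Ideal.mem_span_singleton_self _))

theorem mul_mem_of_mem_nilradical (H : Hyp A B) {I : Ideal A} (hI : Unm B I) {t : A}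
    (hmt : ∀ a ∈ maximalIdeal A, a * t ∈ I) {b : B} (hb : b ∈ nilradical B) :
    algebraMap A B t * b ∈ I.map (algebraMap A B) := by
  refine mem_of_minimalPrimes hI fun q hq => ?_
  have hqp : q.IsPrime := hq.1.1
  have h1 := H.red q (height_pos_or hq) b hb
  rw [mem_map_localization_iff] at h1
  obtain ⟨u, hu, hub⟩ := h1
  refine ⟨u, hu, ?_⟩
  have := mul_mem_of_mem_map hmt hub
  have h7 : algebraMap A B t * (u * b) = u * (algebraMap A B t * b) := by ring
  rwa [h7] at this

omit [IsNoetherianRing B] in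
theorem unm_bot (H : Hyp A B) : Unm B (⊥ : Ideal A) := by
  intro p hp
  apply H.ass
  have e : (B ⧸ (⊥ : Ideal A).map (algebraMap A B)) ≃ₗ[B] B :=
    (Submodule.quotEquivOfEqBot _ Ideal.map_bot)
  rwa [LinearEquiv.AssociatedPrimes.eq e] at hp

omit [IsArtinianRing A] [IsLocalRing A] [IsNoetherianRing B] in
theorem mem_map_sup_span {I : Ideal A} {t : A} {b : B} (hb : b ∈ (I ⊔ Ideal.span {t}).map (algebraMap A B)) :
    ∃ i ∈ I.map (algebraMap A B), ∃ d, b = i + algebraMap A B t * d := by
  rw [Ideal.map_sup, Ideal.map_span, Set.image_singleton] at hb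
  obtain ⟨i, hi, z, hz, rfl⟩ := Submodule.mem_sup.mp hb
  obtain ⟨d, rfl⟩ := Ideal.mem_span_singleton'.mp hz
  exact ⟨i, hi, d, by rw [mul_comm]⟩

omit [IsArtinianRing A] [IsLocalRing A] [IsNoetherianRing B] in
theorem add_mem_map_sup_span {I : Ideal A} {t : A} {i : B} (hi : i ∈ I.map (algebraMap A B)) (d : B) :
    i + algebraMap A B t * d ∈ (I ⊔ Ideal.span {t}).map (algebraMap A B) := by
  refine Ideal.add_mem _ (Ideal.map_mono le_sup_left hi) (Ideal.mul_mem_right _ _ ?_)
  exact Ideal.mem_map_of_mem _ (Ideal.mem_sup_right (Ideal.mem_span_singleton_self t))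

theorem unm_step (H : Hyp A B) {I : Ideal A} (hI : Unm B I) {t : A} (ht : t ∉ I)
    (hmt : ∀ a ∈ maximalIdeal A, a * t ∈ I) : Unm B (I ⊔ Ideal.span {t}) := by
  intro p hp
  have hpp : p.IsPrime := hp.1
  obtain ⟨-, z, hz⟩ := isAssociatedPrime_iff.mp hp
  obtain ⟨j, rfl⟩ := Ideal.Quotient.mk_surjective z
  have hj : ∀ y, y ∈ p ↔ y * j ∈ (I ⊔ Ideal.span {t}).map (algebraMap A B) := by
    intro y
    rw [hz, Submodule.mem_colon_singleton, Submodule.mem_bot, Algebra.smul_def, Ideal.Quotient.algebraMap_eq,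
      ← map_mul, Ideal.Quotient.eq_zero_iff_mem]
  have hjn : j ∉ (I ⊔ Ideal.span {t}).map (algebraMap A B) := by
    intro h
    apply hpp.ne_top
    rw [Ideal.eq_top_iff_one, hj, one_mul]
    exact h
  by_contra hmin
  obtain ⟨x, hxp, hx⟩ := exists_notMem_minimalPrimes hmin
  by_cases hht : p.height ≤ 1
  · -- height one
    have hfl := H.flat p hht
    have hreg : ∀ c : Localization.AtPrime p, algebraMap B (Localization.AtPrime p) x * c ∈
        (maximalIdeal A).map (algebraMap A (Localization.AtPrime p)) →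
        c ∈ (maximalIdeal A).map (algebraMap A (Localization.AtPrime p)) := by
      intro c hc
      obtain ⟨⟨b, s⟩, hs⟩ := IsLocalization.surj p.primeCompl c
      have h1 : algebraMap B (Localization.AtPrime p) (x * b) ∈
          (maximalIdeal A).map (algebraMap A (Localization.AtPrime p)) := by
        rw [map_mul, ← hs, ← mul_assoc]
        exact Ideal.mul_mem_right _ _ hc
      rw [mem_map_localization_iff] at h1
      obtain ⟨u, hu, hub⟩ := h1
      have h2 : u * b ∈ nilradical B := by
        have h3 := map_maximalIdeal_le_nilradical hub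
        rw [mem_nilradical_iff_minimalPrimes] at h3 ⊢
        intro q hq
        have hqp : q.IsPrime := hq.1.1
        have h4 : x * (u * b) ∈ q := by
          have := h3 q hq
          have h5 : u * (x * b) = x * (u * b) := by ring
          rwa [h5] at this
        exact (hqp.mem_or_mem h4).resolve_left (hx q hq)
      have h6 := H.red p hht _ h2
      have hu' : IsUnit (algebraMap B (Localization.AtPrime p) u) :=
        IsLocalization.map_units _ (⟨u, hu⟩ : p.primeCompl)
      have hs' : IsUnit (algebraMap B (Localization.AtPrime p) s) := IsLocalization.map_units _ s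
      rw [map_mul, ← hs, Ideal.unit_mul_mem_iff_mem _ hu'] at h6
      exact (Ideal.mul_unit_mem_iff_mem _ hs').mp h6
    have h7 := mem_map_of_regular_fibre (C := Localization.AtPrime p) _ hreg (I ⊔ Ideal.span {t})
      (algebraMap B (Localization.AtPrime p) j) (by
        rw [← map_mul, mem_map_localization_iff]
        exact ⟨1, fun h => hpp.ne_top ((Ideal.eq_top_iff_one _).mpr h), by rw [one_mul]; exact (hj x).mp hxp⟩)
    rw [mem_map_localization_iff] at h7
    obtain ⟨u, hu, huj⟩ := h7
    exact hu ((hj u).mpr huj)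
  · -- height at least two
    rw [not_le] at hht
    obtain ⟨i1, hi1, b1, hb1⟩ := mem_map_sup_span ((hj x).mp hxp)
    have hb : ∀ y ∈ p, y * b1 ∈ Ideal.span {x} ⊔ nilradical B := by
      intro y hy
      obtain ⟨i2, hi2, b2, hb2⟩ := mem_map_sup_span ((hj y).mp hy)
      have h1 : algebraMap A B t * (y * b1 - x * b2) ∈ I.map (algebraMap A B) := by
        have h2 : algebraMap A B t * (y * b1 - x * b2) = x * i2 - y * i1 := by
          linear_combination x * hb2 - y * hb1
        rw [h2]
        exact Ideal.sub_mem _ (Ideal.mul_mem_left _ _ hi2) (Ideal.mul_mem_left _ _ hi1)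
      have h3 := mem_nilradical_of_mul_mem H ht h1
      have h4 : y * b1 = x * b2 + (y * b1 - x * b2) := by ring
      rw [h4]
      exact Ideal.add_mem _ (Ideal.mem_sup_left (Ideal.mul_mem_right _ _ (Ideal.mem_span_singleton_self x)))
        (Ideal.mem_sup_right h3)
    have h5 := mem_sup_of_hasSk_two H.hS2 hx p hht hb
    obtain ⟨a, ha, n, hn, hab⟩ := Submodule.mem_sup.mp h5
    obtain ⟨c, rfl⟩ := Ideal.mem_span_singleton'.mp ha
    have h6 := mul_mem_of_mem_nilradical H hI hmt hn
    have h7 : x * (j - algebraMap A B t * c) ∈ I.map (algebraMap A B) := by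
      have h8 : x * (j - algebraMap A B t * c) = i1 + algebraMap A B t * n := by
        linear_combination hb1 - algebraMap A B t * hab
      rw [h8]
      exact Ideal.add_mem _ hi1 h6
    have h9 := mem_of_regular hI hx h7
    apply hjn
    have h10 := add_mem_map_sup_span (t := t) h9 c
    rwa [sub_add_cancel] at h10

theorem unm (H : Hyp A B) (K : Ideal A) : Unm B K := by
  obtain ⟨I, ⟨hIK, hI⟩, hmax⟩ := set_has_maximal_iff_noetherian.mpr (inferInstance : IsNoetherian A A)
    {I : Ideal A | I ≤ K ∧ Unm B I} ⟨⊥, bot_le, unm_bot H⟩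
  rcases hIK.eq_or_lt with rfl | hlt
  · exact hI
  · obtain ⟨t, htK, htI, hmt⟩ := exists_socle hlt
    exfalso
    refine hmax (I ⊔ Ideal.span {t}) ⟨sup_le hlt.le ((Ideal.span_singleton_le_iff_mem _).mpr htK),
      unm_step H hI htI hmt⟩ ?_
    refine lt_of_le_of_ne le_sup_left fun heq => htI ?_
    rw [heq]
    exact Ideal.mem_sup_right (Ideal.mem_span_singleton_self t)

theorem nilradical_eq (H : Hyp A B) : nilradical B = (maximalIdeal A).map (algebraMap A B) := by
  refine le_antisymm (fun b hb => ?_) map_maximalIdeal_le_nilradical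
  refine mem_of_minimalPrimes (unm H _) fun q hq => ?_
  have hqp : q.IsPrime := hq.1.1
  have h1 := H.red q (height_pos_or hq) b hb
  rwa [mem_map_localization_iff] at h1

theorem isReduced (H : Hyp A B) : IsReduced (B ⧸ (maximalIdeal A).map (algebraMap A B)) := by
  rw [← nilradical_eq H]
  exact (Ideal.isRadical_iff_quotient_reduced _).mp (Ideal.radical_isRadical ⊥)

open TensorProduct in
/-- Injectivity of `I ⊗ B → B`. -/
def Inj (B : Type u) [CommRing B] [Algebra A B] (I : Ideal A) : Prop :=
  Function.Injective (TensorProduct.lift ((LinearMap.lsmul A B).comp I.subtype))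

open TensorProduct in
theorem inj_step (H : Hyp A B) {I : Ideal A} (hI : Inj B I) {t : A} (ht : t ∉ I)
    (hmt : ∀ a ∈ maximalIdeal A, a * t ∈ I) : Inj B (I ⊔ Ideal.span {t}) := by
  set I' := I ⊔ Ideal.span {t} with hI'
  have htI' : t ∈ I' := Ideal.mem_sup_right (Ideal.mem_span_singleton_self t)
  have hle : I ≤ I' := le_sup_left
  let ι : I ⊗[A] B →ₗ[A] I' ⊗[A] B := LinearMap.rTensor B (Submodule.inclusion hle)
  have hι : ∀ w, (TensorProduct.lift ((LinearMap.lsmul A B).comp I'.subtype)) (ι w) =
      (TensorProduct.lift ((LinearMap.lsmul A B).comp I.subtype)) w := by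
    intro w
    induction w with
    | zero => simp
    | add x y hx hy => simp [map_add, hx, hy]
    | tmul i b => simp [ι]
  have hdec : ∀ z : I' ⊗[A] B, ∃ (w : I ⊗[A] B) (b : B), z = ι w + (⟨t, htI'⟩ : I') ⊗ₜ[A] b := by
    intro z
    induction z with
    | zero => exact ⟨0, 0, by simp⟩
    | add x y hx hy =>
      obtain ⟨w, b, rfl⟩ := hx
      obtain ⟨w', b', rfl⟩ := hy
      exact ⟨w + w', b + b', by rw [map_add, TensorProduct.tmul_add]; abel⟩
    | tmul i b =>
      obtain ⟨i, hi⟩ := i
      obtain ⟨i0, hi0, z, hz, rfl⟩ := Submodule.mem_sup.mp hi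
      obtain ⟨e, rfl⟩ := Ideal.mem_span_singleton'.mp hz
      refine ⟨(⟨i0, hi0⟩ : I) ⊗ₜ b, e • b, ?_⟩
      have h1 : (⟨i0 + e * t, hi⟩ : I') = ⟨i0, hle hi0⟩ + e • ⟨t, htI'⟩ := rfl
      rw [h1, TensorProduct.add_tmul, TensorProduct.smul_tmul]
      rfl
  refine (injective_iff_map_eq_zero _).mpr fun z hz => ?_
  obtain ⟨w, b, rfl⟩ := hdec z
  have hmap : ∀ w : I ⊗[A] B, (TensorProduct.lift ((LinearMap.lsmul A B).comp I.subtype)) w ∈
      I.map (algebraMap A B) := by
    intro w
    induction w with
    | zero => rw [map_zero]; exact Ideal.zero_mem _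
    | add x y hx hy => rw [map_add]; exact Ideal.add_mem _ hx hy
    | tmul i b =>
      rw [TensorProduct.lift.tmul]
      change (i : A) • b ∈ _
      rw [Algebra.smul_def]
      exact Ideal.mul_mem_right _ _ (Ideal.mem_map_of_mem _ i.2)
  have hz' := hz
  rw [map_add, hι, TensorProduct.lift.tmul] at hz'
  change _ + t • b = 0 at hz'
  have hb : algebraMap A B t * b ∈ I.map (algebraMap A B) := by
    rw [← Algebra.smul_def, eq_neg_of_add_eq_zero_right hz']
    exact neg_mem (hmap w)
  have hb' := mem_nilradical_of_mul_mem H ht hb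
  rw [nilradical_eq H] at hb'
  obtain ⟨n, i, d, hi, rfl⟩ := exists_sum_of_mem_map hb'
  have hw' : (⟨t, htI'⟩ : I') ⊗ₜ[A] (∑ k, i k • d k) = ι (∑ k, (⟨i k * t, hmt _ (hi k)⟩ : I) ⊗ₜ[A] d k) := by
    rw [TensorProduct.tmul_sum, map_sum]
    refine Finset.sum_congr rfl fun k _ => ?_
    rw [← TensorProduct.smul_tmul]
    rfl
  rw [hw', ← map_add] at hz ⊢
  rw [hι] at hz
  rw [(injective_iff_map_eq_zero _).mp hI _ hz, map_zero]

omit [IsLocalRing A] [IsArtinianRing A] [IsNoetherianRing B] in
theorem inj_bot : Inj B (⊥ : Ideal A) := by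
  have : Subsingleton (TensorProduct A (⊥ : Ideal A) B) := by
    refine ⟨fun x y => ?_⟩
    have h0 : ∀ z : TensorProduct A (⊥ : Ideal A) B, z = 0 := by
      intro z
      induction z with
      | zero => rfl
      | add x y hx hy => rw [hx, hy, add_zero]
      | tmul i b => rw [Subsingleton.elim i 0, TensorProduct.zero_tmul]
    rw [h0 x, h0 y]
  exact Function.injective_of_subsingleton _

theorem inj (H : Hyp A B) (K : Ideal A) : Inj B K := by
  obtain ⟨I, ⟨hIK, hI⟩, hmax⟩ := set_has_maximal_iff_noetherian.mpr (inferInstance : IsNoetherian A A)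
    {I : Ideal A | I ≤ K ∧ Inj B I} ⟨⊥, bot_le, inj_bot⟩
  rcases hIK.eq_or_lt with rfl | hlt
  · exact hI
  · obtain ⟨t, htK, htI, hmt⟩ := exists_socle hlt
    exfalso
    refine hmax (I ⊔ Ideal.span {t}) ⟨sup_le hlt.le ((Ideal.span_singleton_le_iff_mem _).mpr htK),
      inj_step H hI htI hmt⟩ ?_
    refine lt_of_le_of_ne le_sup_left fun heq => htI ?_
    rw [heq]
    exact Ideal.mem_sup_right (Ideal.mem_span_singleton_self t)

theorem flat (H : Hyp A B) : Module.Flat A B :=
  Module.Flat.iff_lift_lsmul_comp_subtype_injective.mpr fun I _ => inj H I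

theorem hyp_of (hS1 : LocCoh.HasSk 1 B B) (hS2 : LocCoh.HasSk 2 (B ⧸ nilradical B) (B ⧸ nilradical B))
    (hcodim : ∀ (q : Ideal B) [q.IsPrime], q.height ≤ 1 →
      Module.Flat A (Localization.AtPrime q) ∧ IsReduced (EGA4.FibLocRing A B q)) : Hyp A B where
  ass := by
    have h := (Groth.Agent.S2085.result (R := B) (M := B)).mpr hS1
    intro p hp
    have h1 := h p hp
    rwa [(Module.annihilator_eq_bot (R := B) (M := B)).mpr inferInstance] at h1
  hS2 := hS2
  flat q _ hq := (hcodim q hq).1
  red q _ hq b hb := red_of q (hcodim q hq).2 b hb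

end Main

end K812.ArtinFlat
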