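import Groth.Agent.FamCyc.K812.CondT
import Groth.Agent.Ega43.ChevalleyCrit
import Groth.Agent.Ega43.UnivOpenAt
import Groth.Agent.Ega43.H133.OpenAt
import Groth.Agent.Flat2G.EtUnibranch
import Groth.Prelude.Def_CAlg2

/-!
# Condition (T) over a geometrically unibranch base with finitely many irreducible components

Such a base is locally irreducible, and Chevalley's criterion applies to the irreducible component provided by
the condition (T).
-/

set_option autoImplicit false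
universe u
open CategoryTheory AlgebraicGeometry TopologicalSpace Topology
open Groth.Agent.CycB.RelDim Groth.Agent.VarietyA.LocDim

namespace K812.ChevT

variable {X S : Scheme.{u}}

theorem irreducibleSpace_of_specializes {T : Type*} [TopologicalSpace T] (t : T) (h : ∀ x, t ⤳ x) :
    IrreducibleSpace T := by
  have h1 : closure ({t} : Set T) = Set.univ :=
    Set.eq_univ_of_forall fun x => specializes_iff_mem_closure.mp (h x)
  have h2 : IsIrreducible (Set.univ : Set T) := h1 ▸ isIrreducible_singleton.closure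
  have : Nonempty T := ⟨t⟩
  exact { isPreirreducible_univ := h2.2, toNonempty := this }

/-- A point whose local ring is unibranch has a unique maximal generization. -/
theorem eq_of_maximal {s η η' : S} (h : CAlg2.IsGeomUnibranch (S.presheaf.stalk s))
    (hη : ∀ y : S, y ⤳ η → y = η) (hη' : ∀ y : S, y ⤳ η' → y = η') (hs : η ⤳ s) (hs' : η' ⤳ s) :
    η = η' := by
  have hdom : IsDomain (CAlg2.red (S.presheaf.stalk s)) := h.1.1
  have hp : (nilradical (S.presheaf.stalk s)).IsPrime := (Ideal.Quotient.isDomain_iff_prime _).mp hdom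
  have key : ∀ θ : S, (∀ y : S, y ⤳ θ → y = θ) → θ ⤳ s →
      S.fromSpecStalk s (⟨nilradical (S.presheaf.stalk s), hp⟩ : PrimeSpectrum _) = θ := by
    intro θ hθ hθs
    have hmem : θ ∈ Set.range (S.fromSpecStalk s) := by
      rw [Scheme.range_fromSpecStalk]
      exact hθs
    obtain ⟨p, rfl⟩ := hmem
    apply hθ
    refine Specializes.map ?_ (S.fromSpecStalk s).continuous
    exact (PrimeSpectrum.le_iff_specializes _ _).mp (nilradical_le_prime _)
  rw [← key η hη hs, ← key η' hη' hs']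

/-- Local irreducibility. -/
theorem exists_irreducible_nhd (hfin : (irreducibleComponents (S : Type u)).Finite) {s η : S}
    (h : CAlg2.IsGeomUnibranch (S.presheaf.stalk s)) (hη : ∀ y : S, y ⤳ η → y = η) (hs : η ⤳ s) :
    ∃ V : S.Opens, s ∈ V ∧ ∀ v ∈ V, η ⤳ v := by
  let F : Set (Set S) := {T | T ∈ irreducibleComponents (S : Type u) ∧ s ∉ T}
  have hF : F.Finite := hfin.subset fun T hT => hT.1
  have hcl : IsClosed (⋃ T ∈ F, T) :=
    hF.isClosed_biUnion fun T hT => isClosed_of_mem_irreducibleComponents T hT.1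
  refine ⟨⟨_, hcl.isOpen_compl⟩, ?_, fun v hv => ?_⟩
  · intro hmem
    simp only [Set.mem_iUnion] at hmem
    obtain ⟨T, hT, hx⟩ := hmem
    exact hT.2 hx
  · obtain ⟨η', hη', hv'⟩ := Groth.Agent.Ega4fib.H174.Equidim.exists_maximal_specializes v
    have hT : closure ({η'} : Set S) ∈ irreducibleComponents (S : Type u) :=
      Groth.Agent.Ega4fib.H174.Equidim.mem_irreducibleComponents_iff.mpr ⟨η', hη', rfl⟩
    have hs' : η' ⤳ s := by
      by_contra hcon
      apply hv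
      simp only [Set.mem_iUnion]
      exact ⟨_, ⟨hT, fun hmem => hcon (specializes_iff_mem_closure.mpr hmem)⟩,
        specializes_iff_mem_closure.mp hv'⟩
    rw [eq_of_maximal h hη hη' hs hs']
    exact hv'

theorem rtd_restrict (g : X ⟶ S) (V : S.Opens) (z : ↥(g ⁻¹ᵁ V)) : rtd (g ∣_ V) z = rtd g z.1 := by
  have h1 := rtd_comp (g ∣_ V) V.ι z
  rw [rtd_eq_zero_of_isPreimmersion V.ι, zero_add, morphismRestrict_ι, rtd_ι_comp] at h1
  exact h1.symm

theorem exists_nhd_of_irreducible {W V : Scheme.{u}} [IrreducibleSpace W] [IrreducibleSpace V]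
    (hV : ∀ s : V, CAlg2.IsGeomUnibranch (V.presheaf.stalk s)) (g : W ⟶ V) [LocallyOfFiniteType g]
    [IsDominant g] (w : W) (d : ℕ) (hd : rtd g (genericPoint W) = d)
    (hle : ∀ z : W, z ⤳ w → g z = g w → rtd g z ≤ d) : ∃ U : W.Opens, w ∈ U ∧ UniversallyOpen (U.ι ≫ g) := by
  have hup : FlatMor.fibreDimAt g w ≤ d := fibreDimAt_le _ _ d hle
  have hlow : (d : WithBot ℕ∞) ≤ FlatMor.fibreDimAt g (genericPoint W) := by
    obtain ⟨n, hn, hn'⟩ := le_fibreDimAt g (genericPoint W) (genericPoint W) (specializes_refl _) rfl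
    rw [hd] at hn
    have : d = n := by exact_mod_cast hn
    rw [this]
    exact hn'
  exact Groth.Agent.Ega43.ChevalleyCrit.exists_universallyOpen_nhd hV g w d hup hlow

theorem isUnivOpenAt_of_opens {W : Scheme.{u}} (hS : ∀ s : S, CAlg2.IsGeomUnibranch (S.presheaf.stalk s))
    (g : W ⟶ S) [LocallyOfFiniteType g] (ζ : W) (hζ : ∀ z, ζ ⤳ z) (V : S.Opens) (hV : ∀ v ∈ V, g ζ ⤳ v)
    (w : W) (hwV : g w ∈ V) (d : ℕ) (hd : rtd g ζ = d)
    (hle : ∀ z : W, z ⤳ w → g z = g w → rtd g z ≤ d) : EGA43.IsUnivOpenAt g w := by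
  have hηV : g ζ ∈ V := ((hζ w).map g.continuous).mem_open V.2 hwV
  have hVsp : ∀ a b : V.toScheme, a ⤳ b ↔ V.ι a ⤳ V.ι b := fun a b =>
    (V.ι.isEmbedding.isInducing.specializes_iff).symm
  have hTsp : ∀ a b : (g ⁻¹ᵁ V).toScheme, a ⤳ b ↔ (g ⁻¹ᵁ V).ι a ⤳ (g ⁻¹ᵁ V).ι b := fun a b =>
    ((g ⁻¹ᵁ V).ι.isEmbedding.isInducing.specializes_iff).symm
  let η' : V.toScheme := (⟨g ζ, hηV⟩ : V)
  let ζ' : (g ⁻¹ᵁ V).toScheme := (⟨ζ, hηV⟩ : ↥(g ⁻¹ᵁ V))
  let w' : (g ⁻¹ᵁ V).toScheme := (⟨w, hwV⟩ : ↥(g ⁻¹ᵁ V))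
  have hηsp : ∀ v : V.toScheme, η' ⤳ v := fun v => (hVsp _ _).mpr (hV _ v.2)
  have hi : IrreducibleSpace V.toScheme := irreducibleSpace_of_specializes η' hηsp
  have hsp : ∀ v : (g ⁻¹ᵁ V).toScheme, ζ' ⤳ v := fun v => (hTsp _ _).mpr (hζ _)
  have hi' : IrreducibleSpace (g ⁻¹ᵁ V).toScheme := irreducibleSpace_of_specializes _ hsp
  have hgen : genericPoint (g ⁻¹ᵁ V).toScheme = ζ' := ((genericPoint_specializes ζ').antisymm (hsp _)).eq
  have hdom : IsDominant (g ∣_ V) := by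
    refine ⟨?_⟩
    intro v
    have h1 : (g ∣_ V) ζ' ⤳ v := by
      rw [hVsp]
      have h2 : V.ι ((g ∣_ V) ζ') = g ζ := by
        rw [← Scheme.Hom.comp_apply, morphismRestrict_ι]
        rfl
      rw [h2]
      exact hV _ v.2
    refine closure_mono ?_ (specializes_iff_mem_closure.mp h1)
    rintro _ rfl
    exact ⟨ζ', rfl⟩
  have hgeom : ∀ y : V.toScheme, CAlg2.IsGeomUnibranch (V.toScheme.presheaf.stalk y) := by
    intro y
    have hy := hS (V.ι y)
    exact Groth.Agent.Flat2G.EtUnibranch.isGeomUnibranch_of_ringEquiv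
      (asIso (V.ι.stalkMap y)).commRingCatIsoToRingEquiv hy
  obtain ⟨U, hwU, hU⟩ := exists_nhd_of_irreducible hgeom (g ∣_ V) w' d (by rw [hgen, rtd_restrict]; exact hd) (by
    intro z hz hfz
    rw [rtd_restrict]
    refine hle _ ((hTsp _ _).mp hz) ?_
    have h2 := congrArg V.ι hfz
    rw [← Scheme.Hom.comp_apply, ← Scheme.Hom.comp_apply, morphismRestrict_ι] at h2
    exact h2)
  have h3 : U.ι ≫ (g ∣_ V) ≫ V.ι = (U.ι ≫ (g ⁻¹ᵁ V).ι) ≫ g := by
    rw [morphismRestrict_ι, Category.assoc]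
  have h4 : UniversallyOpen ((U.ι ≫ (g ⁻¹ᵁ V).ι) ≫ g) := by
    rw [← h3, ← Category.assoc]
    infer_instance
  exact Groth.Agent.Ega43.UnivOpenAt.isUnivOpenAt_of_comp (U.ι ≫ (g ⁻¹ᵁ V).ι) g ⟨w', hwU⟩
    (Groth.Agent.Ega43.H133.OpenAt.isUnivOpenAt_of_universallyOpen _ _)

theorem isUnivOpenAt_of_ct (hS : ∀ s : S, CAlg2.IsGeomUnibranch (S.presheaf.stalk s))
    (hfin : (irreducibleComponents (S : Type u)).Finite)
    (f : X ⟶ S) [LocallyOfFiniteType f] (x : X) (hT : CondT.CT f x) : EGA43.IsUnivOpenAt f x := by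
  obtain ⟨ζ, hζ, hζx, hmax, hle⟩ := hT
  obtain ⟨V, hsV, hV⟩ := exists_irreducible_nhd hfin (hS (f x)) hmax (hζx.map f.continuous)
  let W : Closeds X := ⟨closure {ζ}, isClosed_closure⟩
  let j := (Scheme.IdealSheafData.vanishingIdeal W).subschemeι
  have hj : Set.range j = closure {ζ} := CondT.range_vanishingIdeal W
  have hζj : ∀ z, ζ ⤳ j z := fun z => by
    rw [specializes_iff_mem_closure, ← hj]
    exact ⟨z, rfl⟩
  obtain ⟨w, hw⟩ : x ∈ Set.range j := by
    rw [hj]; exact specializes_iff_mem_closure.mp hζx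
  obtain ⟨ζ', hζ'⟩ : ζ ∈ Set.range j := by
    rw [hj]; exact subset_closure rfl
  have hζ'sp : ∀ z, ζ' ⤳ z := fun z => by
    rw [← j.isEmbedding.isInducing.specializes_iff, hζ']
    exact hζj z
  obtain ⟨d, hd⟩ := CondT.exists_nat_rtd f ζ
  have hgζ : (j ≫ f) ζ' = f ζ := by rw [Scheme.Hom.comp_apply, hζ']
  have hgw : (j ≫ f) w = f x := by rw [Scheme.Hom.comp_apply, hw]
  have h1 : EGA43.IsUnivOpenAt (j ≫ f) w := by
    refine isUnivOpenAt_of_opens hS (j ≫ f) ζ' hζ'sp V (by rwa [hgζ]) w (by rwa [hgw]) d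
      (by rwa [CondT.rtd_closed, hζ']) fun z hz hf => ?_
    rw [CondT.rtd_closed, ← hd]
    refine hle _ (hζj _) ?_ ?_
    · rw [← hw]
      exact hz.map j.continuous
    · exact hf.trans hgw
  rw [← hw]
  exact Groth.Agent.Ega43.UnivOpenAt.isUnivOpenAt_of_comp j f w h1

theorem universallyOpen (hS : ∀ s : S, CAlg2.IsGeomUnibranch (S.presheaf.stalk s))
    (hfin : (irreducibleComponents (S : Type u)).Finite)
    (f : X ⟶ S) [LocallyOfFiniteType f] (hT : ∀ x, CondT.CT f x) : UniversallyOpen f :=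
  (Groth.Agent.Ega43.UnivOpenAt.universallyOpen_iff_forall_isUnivOpenAt f).mpr
    fun x => isUnivOpenAt_of_ct hS hfin f x (hT x)

end K812.ChevT
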