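import Groth.Agent.Ega4fib.H174.Equidim
import Groth.Agent.Ega4fib.H172.FibDimBC
import Groth.Agent.S0402
import Groth.Prelude.Def_EGA43
import Mathlib.AlgebraicGeometry.IdealSheaf.Subscheme

/-!
# The condition (T) through points

`f : X ⟶ S` locally of finite type satisfies (T) at `x` if `x` lies on an irreducible component `W` of `X` such
that `W ⟶ S` (reduced structure) is equidimensional at `x`.  In terms of points: there is a maximal point
`ζ ⤳ x` of `X` whose image is maximal in `S` and such that the transcendence degree of every point `z` of the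
fibre through `x` with `ζ ⤳ z ⤳ x` is at most that of `ζ`.
-/

set_option autoImplicit false
universe u
open CategoryTheory AlgebraicGeometry TopologicalSpace Topology
open Groth.Agent.CycB.RelDim Groth.Agent.VarietyA.LocDim

namespace K812.CondT

variable {X S : Scheme.{u}}

/-- Lower semicontinuity along generizations. -/
theorem rtd_le_of_fibGeneric (f : X ⟶ S) [LocallyOfFiniteType f] {ζ w : X} (h : ζ ⤳ w)
    (hw : FibGeneric f w) : rtd f ζ ≤ rtd f w := by
  refine Groth.Agent.Flat2D.RelDimClosure.rtd_le_of_closure_mem f ζ w (specializes_iff_mem_closure.mp h) ?_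
  refine ⟨isIrreducible_singleton.closure, fun S hS hle t ht => ?_⟩
  -- `S` is contained in the closure of `w`
  let w' : Groth.Agent.Flat2D.RelDimClosure.Fib f ζ (f w) := ⟨w, specializes_iff_mem_closure.mp h, rfl⟩
  have hemb := Groth.Agent.Flat2D.RelDimClosure.isEmbedding_toFiber f ζ (f w)
  let T := closure (Groth.Agent.Flat2D.RelDimClosure.toFiber f ζ (f w) '' S)
  have hT : IsIrreducible T := (hS.image _ hemb.continuous.continuousOn).closure
  obtain ⟨s, hs⟩ := QuasiSober.sober hT isClosed_closure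
  have hw'T : Groth.Agent.Flat2D.RelDimClosure.toFiber f ζ (f w) w' ∈ T :=
    subset_closure ⟨w', hle (subset_closure rfl), rfl⟩
  have hsw : s ⤳ Groth.Agent.Flat2D.RelDimClosure.toFiber f ζ (f w) w' := hs.specializes hw'T
  have h1 : f.fiberι (f w) s ⤳ w := by
    have := hsw.map (f.fiberι (f w)).continuous
    rwa [Groth.Agent.Flat2D.RelDimClosure.fiberι_toFiber] at this
  have h2 : f (f.fiberι (f w) s) = f w := by
    have : f.fiberι (f w) s ∈ Set.range (f.fiberι (f w)) := ⟨s, rfl⟩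
    rw [Scheme.Hom.range_fiberι] at this
    exact this
  have h3 : f.fiberι (f w) s = w := hw _ h2 h1
  have h4 : s ⤳ Groth.Agent.Flat2D.RelDimClosure.toFiber f ζ (f w) t :=
    hs.specializes (subset_closure ⟨t, ht, rfl⟩)
  have h5 : s = Groth.Agent.Flat2D.RelDimClosure.toFiber f ζ (f w) w' := by
    apply (f.fiberι (f w)).isEmbedding.injective
    rw [h3, Groth.Agent.Flat2D.RelDimClosure.fiberι_toFiber]
  rw [h5] at h4
  exact specializes_iff_mem_closure.mp (hemb.isInducing.specializes_iff.mp h4)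

theorem exists_nat_rtd (f : X ⟶ S) [LocallyOfFiniteType f] (x : X) : ∃ n : ℕ, rtd f x = n :=
  Cardinal.lt_aleph0.mp (rtd_lt_aleph0 f x)

theorem rtd_closed (f : X ⟶ S) {W : Scheme.{u}} (j : W ⟶ X) [IsPreimmersion j] (w : W) :
    rtd (j ≫ f) w = rtd f (j w) := by
  rw [rtd_comp, rtd_eq_zero_of_isPreimmersion j w, add_zero]

/-- Equidimensionality of the closed subscheme with generic point `ζ` through points. -/
theorem isEquidimAt_iff (f : X ⟶ S) [LocallyOfFiniteType f] {W : Scheme.{u}} (j : W ⟶ X) [IsClosedImmersion j]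
    (ζ : X) (hj : Set.range j = closure {ζ}) (w : W) :
    EGA43.IsEquidimAt (j ≫ f) w ↔ (∀ y : S, y ⤳ f ζ → y = f ζ) ∧
      ∀ z : X, ζ ⤳ z → z ⤳ j w → f z = f (j w) → rtd f z ≤ rtd f ζ := by
  have hsp : ∀ a b : W, j a ⤳ j b ↔ a ⤳ b := fun a b => j.isEmbedding.isInducing.specializes_iff
  have hmem : ∀ z : X, ζ ⤳ z → ∃ z' : W, j z' = z := fun z hz => by
    have : z ∈ Set.range j := by rw [hj]; exact specializes_iff_mem_closure.mp hz
    exact this
  have hζ : ∀ z' : W, ζ ⤳ j z' := fun z' => by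
    rw [specializes_iff_mem_closure, ← hj]
    exact ⟨z', rfl⟩
  obtain ⟨ζ', hζ'⟩ := hmem ζ (specializes_refl ζ)
  have hζ'sp : ∀ z' : W, ζ' ⤳ z' := fun z' => by
    rw [← hsp, hζ']
    exact hζ z'
  have hζ'max : ∀ z' : W, z' ⤳ ζ' → z' = ζ' := fun z' h => (h.antisymm (hζ'sp z')).eq
  rw [Groth.Agent.Ega4fib.H174.Equidim.isEquidimAt_iff_points]
  constructor
  · rintro ⟨e, U, hwU, h1, h2⟩
    have hζ'U : ζ' ∈ U := (hζ'sp w).mem_open U.2 hwU
    have h3 := (h1 ζ' hζ'U hζ'max).1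
    have h4 : rtd f ζ = e := by
      have := h2 ζ' hζ'U (fun z' hz' _ => hζ'max z' hz')
      rwa [rtd_closed, hζ'] at this
    rw [Scheme.Hom.comp_apply, hζ'] at h3
    refine ⟨h3, fun z hz hzw hf => ?_⟩
    obtain ⟨z', rfl⟩ := hmem z hz
    have hz'w : z' ⤳ w := (hsp _ _).mp hzw
    obtain ⟨t, ht, hft, htmax⟩ := Groth.Agent.Ega4fib.H174.Equidim.exists_maximal_fiber (j ≫ f) z'
    have htU : t ∈ U := (ht.trans hz'w).mem_open U.2 hwU
    have h5 := h2 t htU htmax
    have h6 := rtd_le_of_specializes (j ≫ f) ht hft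
    rw [h5, rtd_closed] at h6
    rwa [h4]
  · rintro ⟨h1, h2⟩
    obtain ⟨n, hn⟩ := exists_nat_rtd f ζ
    refine ⟨n, ⟨{w' : W | FlatMor.fibreDimAt (j ≫ f) w' ≤ n}, Groth.Agent.S0402.result (j ≫ f) n⟩, ?_, ?_, ?_⟩
    · change FlatMor.fibreDimAt (j ≫ f) w ≤ n
      refine fibreDimAt_le (j ≫ f) w n fun z hz hf => ?_
      rw [rtd_closed, ← hn]
      exact h2 (j z) (hζ z) ((hsp _ _).mpr hz) hf
    · intro z _ hz
      have : z = ζ' := (hz ζ' (hζ'sp z)).symm
      subst this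
      rw [Scheme.Hom.comp_apply, hζ']
      exact ⟨h1, (hζ w).map f.continuous⟩
    · intro z hz hzmax
      apply le_antisymm
      · exact Groth.Agent.Ega4fib.H172.FibDimBC.rtd_le_of_fibreDimAt (j ≫ f) (specializes_refl z) rfl hz
      · have h3 := rtd_le_of_fibGeneric (j ≫ f) (hζ'sp z) (fun z' h h' => hzmax z' h' h)
        rwa [rtd_closed, hζ', hn] at h3

/-- The condition (T) at `x` in terms of points. -/
def CT (f : X ⟶ S) (x : X) : Prop :=
  ∃ ζ : X, (∀ z : X, z ⤳ ζ → z = ζ) ∧ ζ ⤳ x ∧ (∀ y : S, y ⤳ f ζ → y = f ζ) ∧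
    ∀ z : X, ζ ⤳ z → z ⤳ x → f z = f x → rtd f z ≤ rtd f ζ

theorem range_vanishingIdeal (W : Closeds X) :
    Set.range (Scheme.IdealSheafData.vanishingIdeal W).subschemeι = (W : Set X) := by
  rw [Scheme.IdealSheafData.range_subschemeι, Scheme.IdealSheafData.coe_support_vanishingIdeal]

theorem condT_iff (f : X ⟶ S) [LocallyOfFiniteType f] (x : X) :
    (∃ W : TopologicalSpace.Closeds X, (W : Set X) ∈ irreducibleComponents (X : Type u) ∧
      ∃ w : ↥((Scheme.IdealSheafData.vanishingIdeal W).subscheme),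
        (Scheme.IdealSheafData.vanishingIdeal W).subschemeι.base w = x ∧
        EGA43.IsEquidimAt ((Scheme.IdealSheafData.vanishingIdeal W).subschemeι ≫ f) w) ↔ CT f x := by
  constructor
  · rintro ⟨W, hW, w, hw, h⟩
    obtain ⟨ζ, hζ, hζW⟩ := Groth.Agent.Ega4fib.H174.Equidim.mem_irreducibleComponents_iff.mp hW
    have hr := range_vanishingIdeal W
    rw [← hζW] at hr
    rw [isEquidimAt_iff f _ ζ hr w] at h
    obtain ⟨h1, h2⟩ := h
    refine ⟨ζ, hζ, ?_, h1, fun z hz hzx hf => ?_⟩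
    · rw [specializes_iff_mem_closure, ← hr]
      exact ⟨w, hw⟩
    · exact h2 z hz (by erw [hw]; exact hzx) (by erw [hw]; exact hf)
  · rintro ⟨ζ, hζ, hζx, h1, h2⟩
    let W : Closeds X := ⟨closure {ζ}, isClosed_closure⟩
    have hr : Set.range (Scheme.IdealSheafData.vanishingIdeal W).subschemeι = closure {ζ} :=
      range_vanishingIdeal W
    have hx : x ∈ Set.range (Scheme.IdealSheafData.vanishingIdeal W).subschemeι := by
      rw [hr]; exact specializes_iff_mem_closure.mp hζx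
    obtain ⟨w, hw⟩ := hx
    refine ⟨W, Groth.Agent.Ega4fib.H174.Equidim.mem_irreducibleComponents_iff.mpr ⟨ζ, hζ, rfl⟩, w, hw, ?_⟩
    rw [isEquidimAt_iff f _ ζ hr w, hw]
    exact ⟨h1, h2⟩

/-- Equidimensional morphisms satisfy (T). -/
theorem ct_of_isEquidimAt (f : X ⟶ S) [LocallyOfFiniteType f] (x : X) (h : EGA43.IsEquidimAt f x) : CT f x := by
  obtain ⟨e, U, hxU, h1, h2⟩ := (Groth.Agent.Ega4fib.H174.Equidim.isEquidimAt_iff_points f x).mp h
  obtain ⟨ζ, hζ, hζx⟩ := Groth.Agent.Ega4fib.H174.Equidim.exists_maximal_specializes x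
  have hζU : ζ ∈ U := hζx.mem_open U.2 hxU
  refine ⟨ζ, hζ, hζx, (h1 ζ hζU hζ).1, fun z _ hzx _ => ?_⟩
  obtain ⟨t, ht, hft, htmax⟩ := Groth.Agent.Ega4fib.H174.Equidim.exists_maximal_fiber f z
  rw [h2 ζ hζU (fun z' hz' _ => hζ z' hz'), ← h2 t ((ht.trans hzx).mem_open U.2 hxU) htmax]
  exact rtd_le_of_specializes f ht hft

/-- (T) at the maximal points of the fibres implies (T). -/
theorem ct_of_maximal (f : X ⟶ S) [LocallyOfFiniteType f]
    (h : ∀ x : X, (∀ x' : X, f x' = f x → x' ⤳ x → x' = x) → ∃ ζ : X, (∀ z : X, z ⤳ ζ → z = ζ) ∧ ζ ⤳ x ∧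
      (∀ y : S, y ⤳ f ζ → y = f ζ) ∧ rtd f x ≤ rtd f ζ) (x : X) : CT f x := by
  obtain ⟨z₀, hz₀, hfz₀, hgen, n, hn, hdim⟩ :=
    Groth.Agent.Ega4fib.H172.FibDimBC.exists_fibGeneric_rtd_eq f x
  obtain ⟨ζ, hζ, hζz₀, hmax, hle⟩ := h z₀ hgen
  refine ⟨ζ, hζ, hζz₀.trans hz₀, hmax, fun z _ hzx hf => ?_⟩
  calc rtd f z ≤ n := Groth.Agent.Ega4fib.H172.FibDimBC.rtd_le_of_fibreDimAt f hzx hf hdim.le
    _ = rtd f z₀ := hn.symm
    _ ≤ rtd f ζ := hle

end K812.CondT
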