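import Groth.Prelude.Def_W4c1famcyclesFFR
import Mathlib.LinearAlgebra.Charpoly.BaseChange
import Mathlib.LinearAlgebra.Charpoly.ToMatrix
import Mathlib.RingTheory.LocalRing.Module
import Mathlib.RingTheory.TensorProduct.Free
import Mathlib.RingTheory.Localization.Free
import Mathlib.RingTheory.Ideal.AssociatedPrime.Localization
import Mathlib.RingTheory.Ideal.AssociatedPrime.Finiteness
import Mathlib.RingTheory.LocalProperties.Projective
import Mathlib.Algebra.Module.LocalizedModule.Exact
import Mathlib.Algebra.Polynomial.RingDivision

/-!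
# Determinant of an endomorphism of a module with a finite free resolution

The characteristic polynomial is multiplicative in exact sequences of finite free modules; a module with a
finite free resolution is free at the associated primes of the (Noetherian) ring; dividing characteristic
polynomials along the resolution gives the characteristic polynomial of the endomorphism.
-/

set_option autoImplicit false

universe u v w

namespace K812.DetFFR

open Polynomial IsLocalRing TensorProduct

section Exact

variable {R : Type u} [CommRing R] {K F M : Type*} [AddCommGroup K] [Module R K] [AddCommGroup F] [Module R F]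
  [AddCommGroup M] [Module R M]

/-- The characteristic polynomial is multiplicative in short exact sequences of finite free modules. -/
theorem charpoly_exact [Module.Free R K] [Module.Finite R K] [Module.Free R F] [Module.Finite R F]
    [Module.Free R M] [Module.Finite R M] (i : K →ₗ[R] F) (g : F →ₗ[R] M)
    (hi : Function.Injective i) (hg : Function.Surjective g) (hex : Function.Exact i g)
    (a : K →ₗ[R] K) (b : F →ₗ[R] F) (c : M →ₗ[R] M) (hab : ∀ x, i (a x) = b (i x))
    (hbc : ∀ x, g (b x) = c (g x)) : b.charpoly = a.charpoly * c.charpoly := by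
  classical
  obtain ⟨s, hs⟩ := Module.projective_lifting_property g LinearMap.id hg
  have hs' : ∀ m, g (s m) = m := fun m => LinearMap.congr_fun hs m
  have hgi : ∀ k, g (i k) = 0 := fun k => (hex (i k)).mpr ⟨k, rfl⟩
  let e0 : (K × M) →ₗ[R] F := i.coprod s
  have he0 : Function.Bijective e0 := by
    constructor
    · refine (injective_iff_map_eq_zero e0).mpr ?_
      rintro ⟨k, m⟩ h
      have h1 : i k + s m = 0 := by simpa [e0] using h
      have h2 : m = 0 := by
        have := congrArg g h1
        rwa [map_add, hgi, hs', map_zero, zero_add] at this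
      rw [h2, map_zero, add_zero] at h1
      rw [h2, hi (h1.trans (map_zero i).symm)]
      rfl
    · intro f
      obtain ⟨k, hk⟩ := (hex (f - s (g f))).mp (by rw [map_sub, hs', sub_self])
      exact ⟨(k, g f), by simp [e0, hk]⟩
  let e : (K × M) ≃ₗ[R] F := LinearEquiv.ofBijective e0 he0
  have he : ∀ k m, e (k, m) = i k + s m := fun k m => by simp [e, e0]
  have hge : ∀ x, g (e x) = x.2 := by
    rintro ⟨k, m⟩
    rw [he, map_add, hgi, hs', zero_add]
  let f : (K × M) →ₗ[R] (K × M) := e.symm.conj b
  have hf : ∀ x, e (f x) = b (e x) := by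
    intro x
    simp [f, LinearEquiv.conj_apply]
  have hf1 : ∀ k, f (k, 0) = (a k, 0) := by
    intro k
    apply e.injective
    rw [hf, he, he, map_zero, add_zero, add_zero, hab]
  have hf2 : ∀ x, (f x).2 = c x.2 := by
    intro x
    rw [← hge (f x), hf, hbc, hge]
  have h1 : f.charpoly = b.charpoly := LinearEquiv.charpoly_conj e.symm b
  rw [← h1]
  let bK := Module.Free.chooseBasis R K
  let bM := Module.Free.chooseBasis R M
  rw [← LinearMap.charpoly_toMatrix f (bK.prod bM), ← LinearMap.charpoly_toMatrix a bK,
    ← LinearMap.charpoly_toMatrix c bM]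
  have h2 : LinearMap.toMatrix (bK.prod bM) (bK.prod bM) f =
      Matrix.fromBlocks (LinearMap.toMatrix bK bK a)
        (Matrix.of fun i j => bK.repr (f (0, bM j)).1 i) 0 (LinearMap.toMatrix bM bM c) := by
    ext i j
    rcases i with i | i <;> rcases j with j | j
    · simp [LinearMap.toMatrix_apply, hf1]
    · simp [LinearMap.toMatrix_apply]
    · simp [LinearMap.toMatrix_apply, hf2]
    · simp [LinearMap.toMatrix_apply, hf2]
  rw [h2, Matrix.charpoly_fromBlocks_zero₂₁]

end Exact

section Local

variable {R : Type u} [CommRing R] [IsLocalRing R]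

theorem tmul_eq_zero_iff {N : Type*} [AddCommGroup N] [Module R N] {ι : Type*} (b : Module.Basis ι R N) (n : N) :
    ((1 : ResidueField R) ⊗ₜ[R] n = 0) ↔ ∀ i, b.repr n i ∈ maximalIdeal R := by
  have h := (Algebra.TensorProduct.basis (ResidueField R) b).repr.map_eq_zero_iff
    (x := (1 : ResidueField R) ⊗ₜ[R] n)
  rw [← h, Algebra.TensorProduct.basis_repr_tmul, one_smul, Finsupp.ext_iff]
  refine forall_congr' fun i => ?_
  rw [Finsupp.mapRange_apply, Finsupp.coe_zero, Pi.zero_apply]
  exact Ideal.Quotient.eq_zero_iff_mem

/-- Over a local ring whose maximal ideal is killed by a nonzero element, the cokernel of an injective map of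
finite free modules is free. -/
theorem free_of_exact {K F M : Type*} [AddCommGroup K] [Module R K] [AddCommGroup F] [Module R F]
    [AddCommGroup M] [Module R M] [Module.Free R K] [Module.Finite R K] [Module.Free R F] [Module.Finite R F]
    (i : K →ₗ[R] F) (g : F →ₗ[R] M) (hi : Function.Injective i) (hg : Function.Surjective g)
    (hex : Function.Exact i g) (x : R) (hx0 : x ≠ 0) (hx : ∀ m ∈ maximalIdeal R, m * x = 0) :
    Module.Free R M := by
  refine Module.free_of_lTensor_residueField_injective i g hg hex ?_
  refine (injective_iff_map_eq_zero _).mpr fun z hz => ?_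
  obtain ⟨v, rfl⟩ := TensorProduct.mk_surjective R K (ResidueField R) Ideal.Quotient.mk_surjective z
  rw [TensorProduct.mk_apply, LinearMap.lTensor_tmul] at hz
  rw [TensorProduct.mk_apply]
  let bK := Module.Free.chooseBasis R K
  let bF := Module.Free.chooseBasis R F
  rw [tmul_eq_zero_iff bF] at hz
  rw [tmul_eq_zero_iff bK]
  have h1 : i (x • v) = 0 := by
    rw [map_smul]
    apply bF.repr.injective
    rw [map_smul, map_zero]
    ext j
    rw [Finsupp.smul_apply, smul_eq_mul, mul_comm, hx _ (hz j), Finsupp.coe_zero, Pi.zero_apply]
  have h2 : x • v = 0 := hi (h1.trans (map_zero i).symm)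
  intro j
  rw [mem_maximalIdeal, mem_nonunits_iff]
  intro hu
  apply hx0
  have h3 : x * bK.repr v j = 0 := by
    have := congrArg (fun w => bK.repr w j) h2
    simpa using this
  exact (hu.mul_left_eq_zero).mp h3

end Local

section Ass

variable {A : Type u} [CommRing A] [IsNoetherianRing A]

/-- At an associated prime the local ring has a nonzero element killed by the maximal ideal. -/
theorem exists_socle_localization {p : Ideal A} [p.IsPrime] (hp : p ∈ associatedPrimes A A) :
    ∃ x : Localization.AtPrime p, x ≠ 0 ∧ ∀ m ∈ maximalIdeal (Localization.AtPrime p), m * x = 0 := by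
  obtain ⟨-, x, hx⟩ := isAssociatedPrime_iff.mp hp
  have hx' : ∀ y, y ∈ p ↔ y * x = 0 := by
    intro y
    rw [hx, Submodule.mem_colon_singleton, Submodule.mem_bot, smul_eq_mul]
  refine ⟨algebraMap A _ x, ?_, ?_⟩
  · rw [Ne, IsLocalization.map_eq_zero_iff p.primeCompl]
    rintro ⟨s, hs⟩
    exact s.2 ((hx' s).mpr hs)
  · intro m hm
    rw [← Localization.AtPrime.map_eq_maximalIdeal] at hm
    refine Submodule.span_induction (p := fun m _ => m * algebraMap A (Localization.AtPrime p) x = 0) ?_ ?_ ?_ ?_ hm
    · rintro _ ⟨y, hy, rfl⟩
      rw [← map_mul, (hx' y).mp hy, map_zero]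
    · rw [zero_mul]
    · intro a b _ _ ha hb
      rw [add_mul, ha, hb, add_zero]
    · intro a b _ hb
      rw [smul_eq_mul, mul_assoc, hb, mul_zero]

theorem eq_zero_of_ass {a : A} (h : ∀ (p : Ideal A) [p.IsPrime], p ∈ associatedPrimes A A →
    algebraMap A (Localization.AtPrime p) a = 0) : a = 0 := by
  by_contra ha
  obtain ⟨P, hP, hle⟩ := exists_le_isAssociatedPrime_of_isNoetherianRing A a ha
  have hPp : P.IsPrime := hP.1
  have h1 := h P hP
  rw [IsLocalization.map_eq_zero_iff P.primeCompl] at h1
  obtain ⟨s, hs⟩ := h1
  refine s.2 (hle ?_)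
  rw [Submodule.mem_colon_singleton, Submodule.mem_bot, smul_eq_mul]
  exact hs

end Ass

section Loc

variable {A : Type u} [CommRing A] (p : Ideal A) [p.IsPrime]

/-- Localization of a short exact sequence. -/
theorem loc_exact {K F M : Type*} [AddCommGroup K] [Module A K] [AddCommGroup F] [Module A F]
    [AddCommGroup M] [Module A M] (i : K →ₗ[A] F) (g : F →ₗ[A] M) (hex : Function.Exact i g) :
    Function.Exact (LocalizedModule.map p.primeCompl i) (LocalizedModule.map p.primeCompl g) :=
  LocalizedModule.map_exact p.primeCompl i g hex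

theorem loc_comm {K F K' F' : Type*} [AddCommGroup K] [Module A K] [AddCommGroup F] [Module A F]
    [AddCommGroup K'] [Module A K'] [AddCommGroup F'] [Module A F']
    (i : K →ₗ[A] F) (a : K →ₗ[A] K') (b : F →ₗ[A] F') (i' : K' →ₗ[A] F') (h : ∀ x, i' (a x) = b (i x)) (x) :
    LocalizedModule.map p.primeCompl i' (LocalizedModule.map p.primeCompl a x) =
      LocalizedModule.map p.primeCompl b (LocalizedModule.map p.primeCompl i x) := by
  induction x using LocalizedModule.induction_on with
  | h m s => simp [LocalizedModule.map_mk, h]

theorem charpoly_loc {M : Type*} [AddCommGroup M] [Module A M] [Module.Free A M] [Module.Finite A M]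
    [Module.Free (Localization.AtPrime p) (LocalizedModule p.primeCompl M)] (φ : M →ₗ[A] M) :
    (LocalizedModule.map p.primeCompl φ).charpoly = φ.charpoly.map (algebraMap A (Localization.AtPrime p)) := by
  classical
  let b := Module.Free.chooseBasis A M
  let b' := b.ofIsLocalizedModule (Localization.AtPrime p) p.primeCompl (LocalizedModule.mkLinearMap p.primeCompl M)
  rw [← LinearMap.charpoly_toMatrix _ b', ← LinearMap.charpoly_toMatrix φ b, ← Matrix.charpoly_map]
  congr 1
  ext i j
  rw [LinearMap.toMatrix_apply, Matrix.map_apply, LinearMap.toMatrix_apply,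
    Module.Basis.ofIsLocalizedModule_apply, LocalizedModule.mkLinearMap_apply, LocalizedModule.map_mk,
    ← LocalizedModule.mkLinearMap_apply, Module.Basis.ofIsLocalizedModule_repr_apply]

end Loc

section Main

variable {A : Type u} [CommRing A] [IsNoetherianRing A]

theorem step_free (p : Ideal A) [p.IsPrime] (hp : p ∈ associatedPrimes A A) {F M : Type*} [AddCommGroup F]
    [Module A F] [AddCommGroup M] [Module A M] [Module.Free A F] [Module.Finite A F] (f : F →ₗ[A] M)
    (hf : Function.Surjective f)
    (hK : Module.Free (Localization.AtPrime p) (LocalizedModule p.primeCompl (LinearMap.ker f))) :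
    Module.Free (Localization.AtPrime p) (LocalizedModule p.primeCompl M) := by
  have hFfree : Module.Free (Localization.AtPrime p) (LocalizedModule p.primeCompl F) :=
    Module.free_of_isLocalizedModule p.primeCompl (LocalizedModule.mkLinearMap p.primeCompl _)
  obtain ⟨x, hx0, hx⟩ := exists_socle_localization hp
  exact free_of_exact (LocalizedModule.map p.primeCompl (LinearMap.ker f).subtype)
    (LocalizedModule.map p.primeCompl f)
    (LocalizedModule.map_injective _ _ (Submodule.subtype_injective _))
    (LocalizedModule.map_surjective _ _ hf)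
    (loc_exact p _ _ (LinearMap.exact_subtype_ker_map f)) x hx0 hx

/-- The localizations of a module with a finite free resolution at associated primes are free. -/
theorem free_localization (p : Ideal A) [p.IsPrime] (hp : p ∈ associatedPrimes A A) (n : ℕ) :
    ∀ (M : Type u) [AddCommGroup M] [Module A M], FamCyc.HasFiniteFreeResolutionLE A n M →
      Module.Free (Localization.AtPrime p) (LocalizedModule p.primeCompl M) := by
  induction n with
  | zero =>
    intro M _ _ h
    obtain ⟨h1, h2⟩ := h
    exact Module.free_of_isLocalizedModule p.primeCompl (LocalizedModule.mkLinearMap p.primeCompl M)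
  | succ n ih =>
    intro M _ _ h
    obtain ⟨k, f, hf, hK⟩ := h
    exact step_free p hp f hf (ih _ hK)

omit [IsNoetherianRing A] in
theorem finite_of (n : ℕ) :
    ∀ (M : Type u) [AddCommGroup M] [Module A M], FamCyc.HasFiniteFreeResolutionLE A n M →
      Module.Finite A M := by
  cases n with
  | zero => intro M _ _ h; exact h.2
  | succ n =>
    intro M _ _ h
    obtain ⟨k, f, hf, hK⟩ := h
    exact Module.Finite.of_surjective f hf

/-- `q` is the characteristic polynomial of `φ` at every prime where `M` is free. -/
def IsCharpoly {M : Type v} [AddCommGroup M] [Module A M] [Module.Finite A M] (φ : M →ₗ[A] M) (q : A[X]) : Prop :=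
  q.Monic ∧ ∀ (p : Ideal A) [p.IsPrime]
    [Module.Free (Localization.AtPrime p) (LocalizedModule p.primeCompl M)],
    q.map (algebraMap A (Localization.AtPrime p)) = (LocalizedModule.map p.primeCompl φ).charpoly

/-- The inductive step: division of characteristic polynomials. -/
theorem step_charpoly {F M : Type v} [AddCommGroup F]
    [Module A F] [AddCommGroup M] [Module A M] [Module.Free A F] [Module.Finite A F] [Module.Finite A M]
    (f : F →ₗ[A] M) (hf : Function.Surjective f) [Module.Finite A (LinearMap.ker f)]
    (hM : ∀ (p : Ideal A) [p.IsPrime], p ∈ associatedPrimes A A →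
      Module.Free (Localization.AtPrime p) (LocalizedModule p.primeCompl M))
    (hK : ∀ κ : LinearMap.ker f →ₗ[A] LinearMap.ker f, ∃ q, IsCharpoly κ q) (φ : M →ₗ[A] M) :
    ∃ q, IsCharpoly φ q := by
  obtain ⟨ψ, hψ⟩ := Module.projective_lifting_property f (φ ∘ₗ f) hf
  have hψ' : ∀ x, f (ψ x) = φ (f x) := fun x => LinearMap.congr_fun hψ x
  have hker : ∀ x ∈ LinearMap.ker f, ψ x ∈ LinearMap.ker f := by
    intro x hx
    rw [LinearMap.mem_ker] at hx ⊢
    rw [hψ', hx, map_zero]
  let κ : LinearMap.ker f →ₗ[A] LinearMap.ker f := ψ.restrict hker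
  obtain ⟨qK, hqK, hqKp⟩ := hK κ
  -- the fundamental identity at primes where `M` is free
  have key : ∀ (p : Ideal A) [p.IsPrime]
      [Module.Free (Localization.AtPrime p) (LocalizedModule p.primeCompl M)],
      (ψ.charpoly).map (algebraMap A (Localization.AtPrime p)) =
        qK.map (algebraMap A (Localization.AtPrime p)) * (LocalizedModule.map p.primeCompl φ).charpoly := by
    intro p _ hfree
    have hFfree : Module.Free (Localization.AtPrime p) (LocalizedModule p.primeCompl F) :=
      Module.free_of_isLocalizedModule p.primeCompl (LocalizedModule.mkLinearMap p.primeCompl _)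
    have hinj := LocalizedModule.map_injective p.primeCompl _ (Submodule.subtype_injective (LinearMap.ker f))
    have hsurj := LocalizedModule.map_surjective p.primeCompl _ hf
    have hex := loc_exact p _ _ (LinearMap.exact_subtype_ker_map f)
    have hKfree : Module.Free (Localization.AtPrime p) (LocalizedModule p.primeCompl (LinearMap.ker f)) := by
      have hproj : Module.Projective (Localization.AtPrime p) (LocalizedModule p.primeCompl (LinearMap.ker f)) := by
        obtain ⟨s, hs⟩ := Module.projective_lifting_property (LocalizedModule.map p.primeCompl f)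
          LinearMap.id hsurj
        have := (Function.Exact.split_tfae hex hinj hsurj).out 0 1
        obtain ⟨l', hl'⟩ := this.mp ⟨s, hs⟩
        exact Module.Projective.of_split _ _ hl'
      exact Module.free_of_flat_of_isLocalRing
    rw [hqKp p, ← charpoly_loc p ψ]
    exact charpoly_exact (LocalizedModule.map p.primeCompl (LinearMap.ker f).subtype)
      (LocalizedModule.map p.primeCompl f) hinj hsurj hex _ _ _
      (loc_comm p _ _ _ _ fun x => rfl) (loc_comm p _ _ _ _ hψ')
  -- Euclidean division
  have hr : ψ.charpoly %ₘ qK = 0 := by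
    ext j
    rw [coeff_zero]
    apply eq_zero_of_ass
    intro p _ hp
    have hfree := hM p hp
    have h1 := key p
    have h2 : (ψ.charpoly %ₘ qK).map (algebraMap A (Localization.AtPrime p)) = 0 := by
      rw [Polynomial.map_modByMonic _ hqK, h1, mul_comm]
      exact Polynomial.mul_self_modByMonic (hqK.map _)
    rw [← Polynomial.coeff_map, h2, coeff_zero]
  have hq : ψ.charpoly = qK * (ψ.charpoly /ₘ qK) := by
    have := modByMonic_add_div ψ.charpoly qK
    rw [hr, zero_add] at this
    exact this.symm
  refine ⟨ψ.charpoly /ₘ qK, ?_, ?_⟩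
  · have h1 := ψ.charpoly_monic
    rw [hq] at h1
    exact hqK.of_mul_monic_left h1
  · intro p _ _
    have h1 := key p
    rw [hq, Polynomial.map_mul] at h1
    exact (hqK.map _).isRegular.left h1

/-- The characteristic polynomial of an endomorphism of a module with a finite free resolution. -/
theorem exists_charpoly (n : ℕ) :
    ∀ (M : Type u) [AddCommGroup M] [Module A M] [Module.Finite A M],
      FamCyc.HasFiniteFreeResolutionLE A n M → ∀ φ : M →ₗ[A] M, ∃ q : A[X], IsCharpoly φ q := by
  induction n with
  | zero =>
    intro M _ _ _ h φ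
    obtain ⟨h1, h2⟩ := h
    exact ⟨φ.charpoly, φ.charpoly_monic, fun p _ _ => (charpoly_loc p φ).symm⟩
  | succ n ih =>
    intro M _ _ _ h φ
    have hfree := fun (p : Ideal A) [p.IsPrime] hp => free_localization p hp (n + 1) M h
    obtain ⟨k, f, hf, hK⟩ := h
    have : Module.Finite A (LinearMap.ker f) := finite_of n _ hK
    exact step_charpoly f hf hfree (ih _ hK) φ

theorem main (M : Type u) [AddCommGroup M] [Module A M] (n : ℕ)
    (hM : FamCyc.HasFiniteFreeResolutionLE A n M) (φ : M →ₗ[A] M) :
    ∃! a : A, ∀ (p : Ideal A) [p.IsPrime],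
      Module.Free (Localization.AtPrime p) (LocalizedModule p.primeCompl M) →
        algebraMap A (Localization.AtPrime p) a =
          LinearMap.det (LocalizedModule.map p.primeCompl φ) := by
  have : Module.Finite A M := finite_of n M hM
  obtain ⟨q, hq, hqp⟩ := exists_charpoly n M hM φ
  refine ⟨(-1) ^ q.natDegree * q.coeff 0, ?_, ?_⟩
  · intro p _ hfree
    rw [LinearMap.det_eq_sign_charpoly_coeff, ← hqp p, Polynomial.coeff_map, map_mul, map_pow, map_neg, map_one]
    congr 2
    rw [← LinearMap.charpoly_natDegree (LocalizedModule.map p.primeCompl φ), ← hqp p]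
    exact (hq.natDegree_map _).symm
  · intro b hb
    rw [← sub_eq_zero]
    apply eq_zero_of_ass
    intro p _ hp
    have hfree := free_localization p hp n M hM
    rw [map_sub, hb p hfree, sub_eq_zero, LinearMap.det_eq_sign_charpoly_coeff, ← hqp p,
      Polynomial.coeff_map, map_mul, map_pow, map_neg, map_one]
    congr 2
    rw [← LinearMap.charpoly_natDegree (LocalizedModule.map p.primeCompl φ), ← hqp p]
    exact (hq.natDegree_map _)

end Main

end K812.DetFFR
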