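import Mathlib

set_option autoImplicit false
universe u

open TensorProduct

namespace Groth.Agent.FamCyc.K812.EtSecLift

theorem mem_map_of_one_tmul_eq_zero (A A₀ E : Type u) [CommRing A] [CommRing A₀] [CommRing E]
    [Algebra A A₀] [Algebra A E] (hA : Function.Surjective (algebraMap A A₀)) (x : E)
    (hx : (1 : A₀) ⊗ₜ[A] x = 0) : x ∈ (RingHom.ker (algebraMap A A₀)).map (algebraMap A E) := by
  have h := Algebra.TensorProduct.rTensor_ker (R := A) (A := A) (B := A₀) (C := E) (Algebra.ofId A A₀) hA
  have h1 : (1 : A) ⊗ₜ[A] x ∈ RingHom.ker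
      (Algebra.TensorProduct.map (Algebra.ofId A A₀) (AlgHom.id A E)) := by
    rw [RingHom.mem_ker]
    simpa using hx
  rw [h] at h1
  have h2 : Ideal.map (Algebra.TensorProduct.includeLeft : A →ₐ[A] A ⊗[A] E)
      (RingHom.ker (Algebra.ofId A A₀)) ≤
      Ideal.comap (Algebra.TensorProduct.lid A E)
        ((RingHom.ker (algebraMap A A₀)).map (algebraMap A E)) := by
    refine Ideal.map_le_iff_le_comap.mpr fun a ha => ?_
    change Algebra.TensorProduct.lid A E (a ⊗ₜ 1) ∈
      ((RingHom.ker (algebraMap A A₀)).map (algebraMap A E))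
    rw [Algebra.TensorProduct.lid_tmul, ← Algebra.algebraMap_eq_smul_one]
    exact Ideal.mem_map_of_mem _ ha
  have h3 : Algebra.TensorProduct.lid A E (1 ⊗ₜ x) ∈
      ((RingHom.ker (algebraMap A A₀)).map (algebraMap A E)) := h2 h1
  rwa [Algebra.TensorProduct.lid_tmul, one_smul] at h3

/-- An étale algebra with a retraction onto a quotient of the base: after inverting one element the
quotient becomes the base change. -/
theorem exists_elem (A A₀ E : Type u) [CommRing A] [CommRing A₀] [CommRing E]
    [Algebra A A₀] [Algebra A E] [Algebra.Etale A E]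
    (hA : Function.Surjective (algebraMap A A₀)) (ρ : E →ₐ[A] A₀) :
    ∃ f : E, ρ f = 1 ∧ ∀ x : E, ρ x = 0 →
      f * x ∈ (RingHom.ker (algebraMap A A₀)).map (algebraMap A E) := by
  let Q := A₀ ⊗[A] E
  let r : Q →ₐ[A₀] A₀ := Algebra.TensorProduct.lift (Algebra.ofId A₀ A₀) ρ (fun _ _ => .all _ _)
  have hr : ∀ x : E, r (1 ⊗ₜ x) = ρ x := by
    intro x
    refine (Algebra.TensorProduct.lift_tmul _ _ _ _ _).trans ?_
    rw [map_one, one_mul]
  have hrs : Function.Surjective r := fun a => ⟨algebraMap A₀ Q a, by simp⟩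
  have hfg : (RingHom.ker r.toRingHom).FG :=
    Algebra.FinitePresentation.ker_fG_of_surjective r hrs
  have hid : IsIdempotentElem (RingHom.ker r.toRingHom) := by
    algebraize [r.toRingHom]
    have : IsScalarTower A₀ Q A₀ := IsScalarTower.of_algebraMap_eq' (by
      ext x
      exact (r.commutes x).symm)
    have h1 : Algebra.FormallyEtale Q A₀ := Algebra.FormallyEtale.of_restrictScalars (R := A₀)
    exact (Algebra.FormallyEtale.iff_of_surjective hrs).mp h1
  obtain ⟨e, he, hspan⟩ := (Ideal.isIdempotentElem_iff_of_fg _ hfg).mp hid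
  have hsurj : Function.Surjective (Algebra.TensorProduct.includeRight : E →ₐ[A] Q) :=
    Algebra.TensorProduct.includeRight_surjective _ hA
  obtain ⟨f, hf⟩ := hsurj (1 - e)
  have hf' : (1 : A₀) ⊗ₜ[A] f = 1 - e := hf
  have hre : r e = 0 := by
    have : e ∈ RingHom.ker r.toRingHom := by
      rw [hspan]; exact Ideal.mem_span_singleton_self e
    exact this
  refine ⟨f, ?_, ?_⟩
  · rw [← hr, hf', map_sub, hre]; simp
  · intro x hx
    have h1 : (1 : A₀) ⊗ₜ[A] x ∈ RingHom.ker r.toRingHom := by
      change r _ = 0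
      rw [hr, hx]
    rw [hspan] at h1
    obtain ⟨y, hy⟩ := Ideal.mem_span_singleton'.mp h1
    have h2 : (1 : A₀) ⊗ₜ[A] (f * x) = 0 := by
      have : (1 : A₀) ⊗ₜ[A] (f * x) = ((1 : A₀) ⊗ₜ[A] f) * ((1 : A₀) ⊗ₜ[A] x) := by simp
      rw [this, hf', ← hy]
      have he' : e * e = e := he
      linear_combination (-y) * he'
    exact mem_map_of_one_tmul_eq_zero A A₀ E hA _ h2

/-- Étale neighbourhoods of a closed subscheme from an étale algebra with a section over it. -/
theorem exists_etale (A A₀ E : Type u) [CommRing A] [CommRing A₀] [CommRing E]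
    [Algebra A A₀] [Algebra A E] [Algebra.Etale A E]
    (hA : Function.Surjective (algebraMap A A₀)) (ρ : E →ₐ[A] A₀) :
    ∃ (E' : Type u) (_ : CommRing E') (_ : Algebra A E') (_ : Algebra.Etale A E')
      (σ : E →ₐ[A] E') (ρ' : E' →ₐ[A] A₀), ρ'.comp σ = ρ ∧
      RingHom.ker ρ' = (RingHom.ker (algebraMap A A₀)).map (algebraMap A E') := by
  obtain ⟨f, hf, hfx⟩ := exists_elem A A₀ E hA ρ
  let E' := Localization.Away f
  have : Algebra.Etale A E' := Algebra.Etale.comp A E E'
  let ρ' : E' →ₐ[A] A₀ := IsLocalization.liftAlgHom (M := Submonoid.powers f) (f := ρ) (by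
    rintro ⟨_, n, rfl⟩
    simp [hf])
  refine ⟨E', inferInstance, inferInstance, this, IsScalarTower.toAlgHom A E E', ρ', ?_, ?_⟩
  · ext x
    simp [ρ']
  · apply le_antisymm
    · intro x hx
      obtain ⟨y, ⟨_, n, rfl⟩, rfl⟩ := IsLocalization.exists_mk'_eq (Submonoid.powers f) x
      have hy : ρ y = 0 := by
        have h1 : ρ' (algebraMap E E' y) = 0 := by
          rw [← IsLocalization.mk'_spec E' y (⟨f ^ n, ⟨n, rfl⟩⟩ : Submonoid.powers f), map_mul]
          erw [hx]
          rw [zero_mul]
        simpa [ρ'] using h1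
      have h2 := Ideal.mem_map_of_mem (algebraMap E E') (hfx y hy)
      rw [Ideal.map_map, ← IsScalarTower.algebraMap_eq] at h2
      rw [map_mul] at h2
      have hu : IsUnit (algebraMap E E' f) := IsLocalization.Away.algebraMap_isUnit f
      have h3 := (Ideal.unit_mul_mem_iff_mem _ hu).mp h2
      rw [IsLocalization.mk'_eq_mul_mk'_one]
      exact Ideal.mul_mem_right _ _ h3
    · rw [Ideal.map_le_iff_le_comap]
      intro a ha
      change ρ' (algebraMap A E' a) = 0
      rw [ρ'.commutes]
      exact ha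

/-- The affine form of the extension problem over a closed subscheme, for an algebra which is étale over a
polynomial ring. -/
theorem exists_etale_lift (A A₀ C : Type u) [CommRing A] [CommRing A₀] [CommRing C]
    [Algebra A A₀] [Algebra A C] (n : ℕ) [Algebra (MvPolynomial (Fin n) A) C]
    [IsScalarTower A (MvPolynomial (Fin n) A) C] [Algebra.Etale (MvPolynomial (Fin n) A) C]
    (hA : Function.Surjective (algebraMap A A₀)) (σ₀ : C →ₐ[A] A₀) :
    ∃ (E : Type u) (_ : CommRing E) (_ : Algebra A E) (_ : Algebra.Etale A E)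
      (σ : C →ₐ[A] E) (ρ : E →ₐ[A] A₀), ρ.comp σ = σ₀ ∧
      RingHom.ker ρ = (RingHom.ker (algebraMap A A₀)).map (algebraMap A E) := by
  let P := MvPolynomial (Fin n) A
  choose a ha using fun i : Fin n => hA (σ₀ (algebraMap P C (MvPolynomial.X i)))
  let ev : P →ₐ[A] A := MvPolynomial.aeval a
  let _ : Algebra P A := ev.toRingHom.toAlgebra
  have hev : ∀ p : P, algebraMap P A p = ev p := fun _ => rfl
  have : IsScalarTower A P A := IsScalarTower.of_algebraMap_eq' (by
    ext x
    exact (ev.commutes x).symm)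
  let E := A ⊗[P] C
  have h1 : Algebra.Etale A E := inferInstance
  let _ : Algebra P A₀ := ((algebraMap A A₀).comp (algebraMap P A)).toAlgebra
  have : IsScalarTower P A A₀ := IsScalarTower.of_algebraMap_eq' rfl
  have hcomp : (σ₀ : C →+* A₀).comp (algebraMap P C) = algebraMap P A₀ := by
    apply MvPolynomial.ringHom_ext
    · intro r
      have h2 : (MvPolynomial.C r : P) = algebraMap A P r := rfl
      rw [RingHom.comp_apply, h2, ← IsScalarTower.algebraMap_apply A P C]
      erw [σ₀.commutes]
      change _ = (algebraMap A A₀) (ev (algebraMap A P r))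
      rw [ev.commutes]
      rfl
    · intro i
      change σ₀ _ = (algebraMap A A₀) (ev (MvPolynomial.X i))
      rw [← ha i]
      exact congrArg _ (MvPolynomial.aeval_X a i).symm
  let σ₁ : C →ₐ[P] A₀ := { (σ₀ : C →+* A₀) with
    commutes' := fun r => RingHom.congr_fun hcomp r }
  let ρ₀ : E →ₐ[A] A₀ := Algebra.TensorProduct.lift (Algebra.ofId A A₀) σ₁ (fun _ _ => .all _ _)
  obtain ⟨E', i1, i2, i3, τ, ρ', h3, h4⟩ := exists_etale A A₀ E hA ρ₀
  let inc : C →ₐ[A] E := { (Algebra.TensorProduct.includeRight : C →ₐ[P] E) with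
    commutes' := fun r => by
      have h5 : algebraMap A C r = algebraMap P C (algebraMap A P r) :=
        IsScalarTower.algebraMap_apply A P C r
      change (Algebra.TensorProduct.includeRight : C →ₐ[P] E) (algebraMap A C r) = _
      rw [h5, AlgHom.commutes]
      change algebraMap P E _ = _
      rw [IsScalarTower.algebraMap_apply P A E, hev, ev.commutes]
      rfl }
  refine ⟨E', i1, i2, i3, τ.comp inc, ρ', ?_, h4⟩
  rw [← AlgHom.comp_assoc, h3]
  ext c
  change ρ₀ (1 ⊗ₜ c) = σ₀ c
  refine (Algebra.TensorProduct.lift_tmul _ _ _ _ _).trans ?_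
  rw [map_one, one_mul]
  rfl

end Groth.Agent.FamCyc.K812.EtSecLift
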