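import Groth.Agent.FamCyc.K812.EtSecLift

set_option autoImplicit false
universe u

open TensorProduct CategoryTheory AlgebraicGeometry

namespace Groth.Agent.FamCyc.K812.EtSecLift

/-- The affine form of the extension problem for a morphism to a smooth scheme. -/
theorem exists_etale_lift' {R A A₀ B : Type u} [CommRing R] [CommRing A] [CommRing A₀] [CommRing B]
    (r : R →+* A) (π : A →+* A₀) (hπ : Function.Surjective π) {n : ℕ}
    (g : MvPolynomial (Fin n) R →+* B) (hg : g.Etale) (φ₀ : B →+* A₀)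
    (hφ₀ : φ₀.comp (g.comp MvPolynomial.C) = π.comp r) :
    ∃ (E : Type u) (_ : CommRing E) (ε : A →+* E) (_ : ε.Etale) (τ : B →+* E) (ρ : E →+* A₀),
      ρ.comp ε = π ∧ ρ.comp τ = φ₀ ∧ τ.comp (g.comp MvPolynomial.C) = ε.comp r ∧
      RingHom.ker ρ = (RingHom.ker π).map ε := by
  let P := MvPolynomial (Fin n) R
  let P' := MvPolynomial (Fin n) A
  let _ : Algebra A A₀ := π.toAlgebra
  let _ : Algebra P B := g.toAlgebra
  have : Algebra.Etale P B := hg
  let m : P →+* P' := MvPolynomial.map r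
  let _ : Algebra P P' := m.toAlgebra
  let C := P' ⊗[P] B
  have : Algebra.Etale P' C := inferInstance
  let aev : P' →+* A₀ := MvPolynomial.eval₂Hom π (fun i => φ₀ (g (MvPolynomial.X i)))
  let _ : Algebra P A₀ := (φ₀.comp g).toAlgebra
  have haev : aev.comp m = φ₀.comp g := by
    apply MvPolynomial.ringHom_ext
    · intro x
      have h1 : φ₀ (g (MvPolynomial.C x)) = π (r x) := RingHom.congr_fun hφ₀ x
      have e1 : m (MvPolynomial.C x) = MvPolynomial.C (r x) := MvPolynomial.map_C r x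
      have e2 : aev (MvPolynomial.C (r x)) = π (r x) := MvPolynomial.eval₂Hom_C _ _ _
      rw [RingHom.comp_apply, e1, e2, ← h1]
      rfl
    · intro i
      have e1 : m (MvPolynomial.X i) = MvPolynomial.X i := MvPolynomial.map_X r i
      have e2 : aev (MvPolynomial.X i) = φ₀ (g (MvPolynomial.X i)) :=
        MvPolynomial.eval₂Hom_X' _ _ _
      rw [RingHom.comp_apply, e1, e2]
      rfl
  let aev' : P' →ₐ[P] A₀ := { aev with commutes' := fun p => RingHom.congr_fun haev p }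
  let φ₀' : B →ₐ[P] A₀ := { φ₀ with commutes' := fun p => rfl }
  let s : C →ₐ[P] A₀ := Algebra.TensorProduct.lift aev' φ₀' (fun _ _ => .all _ _)
  have hs1 : ∀ p : P', s (algebraMap P' C p) = aev p := by
    intro p
    refine (Algebra.TensorProduct.lift_tmul _ _ _ _ _).trans ?_
    rw [map_one, mul_one]
    rfl
  have hs2 : ∀ b : B, s (1 ⊗ₜ b) = φ₀ b := by
    intro b
    refine (Algebra.TensorProduct.lift_tmul _ _ _ _ _).trans ?_
    rw [map_one, one_mul]
    rfl
  let σ₀ : C →ₐ[A] A₀ := { (s : C →+* A₀) with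
    commutes' := fun a => by
      change s (algebraMap P' C (algebraMap A P' a)) = π a
      rw [hs1]
      exact MvPolynomial.eval₂Hom_C _ _ _ }
  have hA : Function.Surjective (algebraMap A A₀) := hπ
  obtain ⟨E, i1, i2, i3, σ, ρ, h1, h2⟩ := exists_etale_lift A A₀ C n hA σ₀
  let inc : B →+* C := (Algebra.TensorProduct.includeRight : B →ₐ[P] C).toRingHom
  refine ⟨E, i1, algebraMap A E, RingHom.etale_algebraMap.mpr i3, (σ : C →+* E).comp inc, ρ, ?_, ?_, ?_, h2⟩
  · ext a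
    exact ρ.commutes a
  · ext b
    have h3 : ρ (σ (1 ⊗ₜ b)) = σ₀ (1 ⊗ₜ b) := by rw [← h1]; rfl
    exact h3.trans (hs2 b)
  · ext x
    change σ (inc (g (MvPolynomial.C x))) = algebraMap A E (r x)
    have h3 : inc (g (MvPolynomial.C x)) = algebraMap A C (r x) := by
      have h4 : (Algebra.TensorProduct.includeRight : B →ₐ[P] C) (algebraMap P B (MvPolynomial.C x)) =
        algebraMap P C (MvPolynomial.C x) := AlgHom.commutes _ _
      refine h4.trans ?_
      rw [IsScalarTower.algebraMap_apply P P' C]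
      change algebraMap P' C (m _) = algebraMap P' C (algebraMap A P' (r x))
      congr 1
      exact MvPolynomial.map_C r x
    rw [h3, σ.commutes]

/-- The pullback square of a closed immersion defined by the extended ideal. -/
theorem isPullback_of_ker {A A₀ E : CommRingCat.{u}} (π : A ⟶ A₀) (hπ : Function.Surjective π)
    (ε : A ⟶ E) (ρ : E ⟶ A₀) (h : ε ≫ ρ = π)
    (hker : RingHom.ker ρ.hom = (RingHom.ker π.hom).map ε.hom) :
    IsPullback (Spec.map ρ) (𝟙 (Spec A₀)) (Spec.map ε) (Spec.map π) := by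
  have hρ : Function.Surjective ρ := by
    intro x
    obtain ⟨a, ha⟩ := hπ x
    exact ⟨ε a, by rw [← ha, ← h]; rfl⟩
  have hpo : IsPushout π ε (𝟙 A₀) ρ := by
    refine ⟨⟨by rw [h, Category.comp_id]⟩, ⟨Limits.PushoutCocone.IsColimit.mk _ (fun s => s.inl) ?_ ?_ ?_⟩⟩
    · intro s; simp
    · intro s
      have hc : π ≫ s.inl = ε ≫ s.inr := s.condition
      have hk : ∀ x : E, ρ x = 0 → s.inr x = 0 := by
        intro x hx
        have h1 : x ∈ RingHom.ker ρ.hom := hx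
        rw [hker] at h1
        have h2 : (RingHom.ker π.hom).map ε.hom ≤ RingHom.ker s.inr.hom := by
          rw [Ideal.map_le_iff_le_comap]
          intro a ha
          have h3 : s.inl (π a) = s.inr (ε a) := ConcreteCategory.congr_hom hc a
          have h4 : π a = 0 := ha
          change s.inr (ε a) = 0
          rw [← h3, h4, map_zero]
        exact h2 h1
      ext x
      obtain ⟨a, ha⟩ := hπ (ρ x)
      have h5 : ρ (x - ε a) = 0 := by
        rw [map_sub, ← ha, ← h]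
        exact sub_self _
      have h6 := hk _ h5
      rw [map_sub, sub_eq_zero] at h6
      have h7 : s.inl (π a) = s.inr (ε a) := ConcreteCategory.congr_hom hc a
      change s.inl (ρ x) = s.inr x
      rw [h6, ← h7, ha]
    · intro s m h1 h2
      simpa using h1
  have := isPullback_SpecMap_of_isPushout _ _ _ _ hpo.flip
  rwa [Spec.map_id] at this

theorem isPullback_fromSpec {X Y : Scheme.{u}} (f : X ⟶ Y) [IsAffineHom f] {V : Y.Opens}
    (hV : IsAffineOpen V) :
    IsPullback (hV.preimage f).fromSpec (Spec.map (f.app V)) f hV.fromSpec := by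
  refine (IsOpenImmersion.isPullback _ _ _ _ ?_ ?_).flip
  · rw [Scheme.Hom.app_eq_appLE]
    exact (hV.SpecMap_appLE_fromSpec f (hV.preimage f) le_rfl).symm
  · rw [IsAffineOpen.opensRange_fromSpec, IsAffineOpen.opensRange_fromSpec]

theorem appLE_eq_of_eq {X Y : Scheme.{u}} {a b : X ⟶ Y} (h : a = b) (U : Y.Opens) (W : X.Opens)
    (ha : W ≤ a ⁻¹ᵁ U) (hb : W ≤ b ⁻¹ᵁ U) : a.appLE U W ha = b.appLE U W hb := by
  subst h; rfl

/-- Extension of a morphism from a closed subscheme to a smooth scheme, étale locally around a point of the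
closed subscheme. -/
theorem exists_extension {S X₀ X Y : Scheme.{u}} (i : X₀ ⟶ X) [IsClosedImmersion i]
    (p : X ⟶ S) (q : Y ⟶ S) [Smooth q] (f₀ : X₀ ⟶ Y) (hf₀ : f₀ ≫ q = i ≫ p) (x₀ : X₀) :
    ∃ (U U₀ : Scheme.{u}) (e : U ⟶ X) (f : U ⟶ Y) (j : U₀ ⟶ X₀) (k : U₀ ⟶ U),
      Etale e ∧ f ≫ q = e ≫ p ∧ IsPullback k j e i ∧ IsOpenImmersion j ∧ x₀ ∈ Set.range j ∧
      j ≫ f₀ = k ≫ f := by
  obtain ⟨U, hU, V, hV, hyV, hVU, hsm⟩ := Smooth.exists_isStandardSmooth q (f₀ x₀)
  obtain ⟨n, g, hgC, hg⟩ := hsm.exists_etale_mvPolynomial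
  -- the neighbourhood of the point of X
  obtain ⟨O₁, hO₁, hO₁V⟩ := i.isEmbedding.isOpen_iff.mp (f₀ ⁻¹ᵁ V).2
  have hx1 : i x₀ ∈ O₁ := by
    have : x₀ ∈ i ⁻¹' O₁ := by rw [hO₁V]; exact hyV
    exact this
  have hx2 : i x₀ ∈ p ⁻¹ᵁ U := by
    change p (i x₀) ∈ U
    rw [← Scheme.Hom.comp_apply, ← hf₀, Scheme.Hom.comp_apply]
    exact hVU hyV
  obtain ⟨_, ⟨O, hO, rfl⟩, hxO, hOO⟩ := X.isBasis_affineOpens.exists_subset_of_mem_open
    (show i x₀ ∈ O₁ ∩ (p ⁻¹ᵁ U : Set X) from ⟨hx1, hx2⟩) (hO₁.inter (p ⁻¹ᵁ U).2)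
  have hOU : O ≤ p ⁻¹ᵁ U := fun x hx => (hOO hx).2
  have hOV : i ⁻¹ᵁ O ≤ f₀ ⁻¹ᵁ V := fun x hx => by
    have h1 : x ∈ i ⁻¹' O₁ := (hOO hx).1
    rw [hO₁V] at h1
    exact h1
  let r := p.appLE U O hOU
  let φ₀ := f₀.appLE V (i ⁻¹ᵁ O) hOV
  have hcomp : (φ₀.hom).comp (g.comp MvPolynomial.C) = (i.app O).hom.comp r.hom := by
    rw [hgC, ← CommRingCat.hom_comp, ← CommRingCat.hom_comp]
    congr 1
    simp only [φ₀, r]
    rw [Scheme.Hom.appLE_comp_appLE, Scheme.Hom.app_eq_appLE, Scheme.Hom.appLE_comp_appLE]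
    exact appLE_eq_of_eq hf₀ _ _ _ _
  obtain ⟨E, _, ε, hε, τ, ρ, h1, h2, h3, h4⟩ := exists_etale_lift' r.hom (i.app O).hom
    (i.app_surjective O hO) g hg φ₀.hom hcomp
  let ε' : Γ(X, O) ⟶ CommRingCat.of E := CommRingCat.ofHom ε
  let τ' : Γ(Y, V) ⟶ CommRingCat.of E := CommRingCat.ofHom τ
  let ρ' : CommRingCat.of E ⟶ Γ(X₀, i ⁻¹ᵁ O) := CommRingCat.ofHom ρ
  have hε' : Etale (Spec.map ε') := HasRingHomProperty.Spec_iff.mpr hε
  have e1 : ε' ≫ ρ' = i.app O := by ext x; exact RingHom.congr_fun h1 x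
  have e2 : τ' ≫ ρ' = φ₀ := by ext x; exact RingHom.congr_fun h2 x
  have e3 : q.appLE U V hVU ≫ τ' = r ≫ ε' := by
    ext x
    have := RingHom.congr_fun h3 x
    rw [hgC] at this
    exact this
  have hO' : IsAffineOpen O := hO
  have hpb := (isPullback_of_ker (i.app O) (i.app_surjective O hO) ε' ρ' e1 h4).paste_vert
    (isPullback_fromSpec i hO').flip
  rw [Category.id_comp] at hpb
  refine ⟨Spec (.of E), Spec Γ(X₀, i ⁻¹ᵁ O), Spec.map ε' ≫ hO'.fromSpec, Spec.map τ' ≫ hV.fromSpec,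
    (hO'.preimage i).fromSpec, Spec.map ρ', inferInstance, ?_, hpb, inferInstance, ?_, ?_⟩
  · rw [Category.assoc, Category.assoc, ← IsAffineOpen.SpecMap_appLE_fromSpec q hU hV hVU,
      ← IsAffineOpen.SpecMap_appLE_fromSpec p hU hO' hOU, ← Spec.map_comp_assoc,
      ← Spec.map_comp_assoc, e3]
  · rw [IsAffineOpen.range_fromSpec]
    exact hxO
  · rw [← Spec.map_comp_assoc, e2]
    exact (IsAffineOpen.SpecMap_appLE_fromSpec f₀ hV (hO'.preimage i) hOV).symm

end Groth.Agent.FamCyc.K812.EtSecLift
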