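import Groth.Agent.FamCyc.K812.CondT
import Groth.Agent.Ega43.OpenUniv
import Groth.Agent.Sga2lef.H98.Rtd
import Mathlib.RingTheory.Valuation.LocalSubring
import Mathlib.RingTheory.Valuation.ValuationRing
import Mathlib.AlgebraicGeometry.FunctionField
import Mathlib.AlgebraicGeometry.Morphisms.UniversallyOpen

/-!
# Universally open morphisms satisfy the condition (T)

The transcendence degree of residue field extensions does not decrease along generizations over a valuation
ring: a polynomial relation can be divided by its largest coefficient.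
-/

set_option autoImplicit false
universe u
open CategoryTheory AlgebraicGeometry TopologicalSpace Topology
open Groth.Agent.CycB.RelDim Groth.Agent.VarietyA.LocDim Groth.Agent.CycB.TrdegAlg

namespace K812.OpenT

section Alg

variable {V : Type u} [CommRing V] [IsDomain V] [ValuationRing V]

theorem exists_dvd {σ : Type*} (s : Finset σ) (hs : s.Nonempty) (a : σ → V) :
    ∃ i ∈ s, ∀ j ∈ s, a i ∣ a j := by
  classical
  induction hs using Finset.Nonempty.cons_induction with
  | singleton i => exact ⟨i, by simp, by simp⟩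
  | cons k t hk ht ih =>
    obtain ⟨i, hi, h⟩ := ih
    rcases ValuationRing.dvd_total (a i) (a k) with hd | hd
    · refine ⟨i, Finset.mem_cons_of_mem hi, fun j hj => ?_⟩
      rcases Finset.mem_cons.mp hj with rfl | hj
      · exact hd
      · exact h j hj
    · refine ⟨k, Finset.mem_cons_self _ _, fun j hj => ?_⟩
      rcases Finset.mem_cons.mp hj with rfl | hj
      · exact dvd_rfl
      · exact hd.trans (h j hj)

theorem exists_primitive {σ : Type*} (F : MvPolynomial σ V) (hF : F ≠ 0) :
    ∃ (c : V) (G : MvPolynomial σ V) (i : σ →₀ ℕ), c ≠ 0 ∧ F = MvPolynomial.C c * G ∧ G.coeff i = 1 := by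
  classical
  obtain ⟨i, hi, h⟩ := exists_dvd F.support (MvPolynomial.support_nonempty.mpr hF) F.coeff
  choose! g hg using h
  have hc : F.coeff i ≠ 0 := MvPolynomial.mem_support_iff.mp hi
  refine ⟨F.coeff i, ∑ j ∈ F.support, MvPolynomial.monomial j (g j), i, hc, ?_, ?_⟩
  · rw [Finset.mul_sum]
    conv_lhs => rw [F.as_sum]
    refine Finset.sum_congr rfl fun j hj => ?_
    rw [MvPolynomial.C_mul_monomial, ← hg j hj]
  · rw [MvPolynomial.coeff_sum, Finset.sum_eq_single i]
    · rw [MvPolynomial.coeff_monomial, if_pos rfl]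
      have h1 := hg i hi
      exact (mul_right_eq_self₀.mp h1.symm).resolve_right hc
    · intro j _ hji
      rw [MvPolynomial.coeff_monomial, if_neg hji]
    · intro h; exact absurd hi h

omit [ValuationRing V] in
theorem trd_quotientMap_bot {B : Type u} [CommRing B] (φ : V →+* B) (P : Ideal B) [P.IsPrime]
    (hP : (⊥ : Ideal V) = P.comap φ) :
    trd (Ideal.quotientMap P φ hP.le) = trd ((Ideal.Quotient.mk P).comp φ) := by
  have : (Ideal.quotientMap P φ hP.le).comp (Ideal.Quotient.mk ⊥) = (Ideal.Quotient.mk P).comp φ :=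
    Ideal.quotientMap_comp_mk hP.le
  rw [← this]
  have hinj : Function.Injective (Ideal.Quotient.mk (⊥ : Ideal V)) := by
    rw [injective_iff_map_eq_zero]
    intro a ha
    exact Ideal.Quotient.eq_zero_iff_mem.mp ha
  have : IsDomain (V ⧸ (⊥ : Ideal V)) := Ideal.Quotient.isDomain _
  rw [trd_comp' _ _ hinj (quotientMap_injective_of_eq φ ⊥ P hP),
    trd_eq_zero_of_surjective _ hinj Ideal.Quotient.mk_surjective, zero_add]

/-- Over a valuation ring the transcendence degree at a specialization of a point over the generic point is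
at most that at the point. -/
theorem trd_quotientMap_le {B : Type u} [CommRing B] (φ : V →+* B) (p : Ideal V) [p.IsPrime] (Q P : Ideal B)
    [Q.IsPrime] [P.IsPrime] (hPQ : P ≤ Q) (hp : p = Q.comap φ) (hP : (⊥ : Ideal V) = P.comap φ) :
    trd (Ideal.quotientMap Q φ hp.le) ≤ trd (Ideal.quotientMap P φ hP.le) := by
  rw [trd_quotientMap_bot (hP := hP)]
  let ψ : V →+* B ⧸ P := (Ideal.Quotient.mk P).comp φ
  let _ := ψ.toAlgebra
  let χ : V ⧸ p →+* B ⧸ Q := Ideal.quotientMap Q φ hp.le
  let _ := χ.toAlgebra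
  change Algebra.trdeg (V ⧸ p) (B ⧸ Q) ≤ Algebra.trdeg V (B ⧸ P)
  refine ciSup_le' ?_
  rintro ⟨s, hs⟩
  choose b hb using fun i : s => Ideal.Quotient.mk_surjective (I := Q) (i : B ⧸ Q)
  have hind : AlgebraicIndependent V (fun i => Ideal.Quotient.mk P (b i)) := by
    rw [algebraicIndependent_iff]
    intro F hF
    by_contra hne
    obtain ⟨c, G, i, hc, rfl, hG⟩ := exists_primitive F hne
    rw [map_mul, MvPolynomial.aeval_C] at hF
    have hc' : algebraMap V (B ⧸ P) c ≠ 0 := by
      intro h0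
      apply hc
      have h1 : φ c ∈ P := Ideal.Quotient.eq_zero_iff_mem.mp h0
      have h2 : c ∈ P.comap φ := h1
      rw [← hP] at h2
      exact h2
    have hG0 := (mul_eq_zero.mp hF).resolve_left hc'
    let β : B := MvPolynomial.eval₂Hom φ b G
    have hβP : Ideal.Quotient.mk P β = 0 := by
      rw [← hG0]
      change ((Ideal.Quotient.mk P).comp (MvPolynomial.eval₂Hom φ b)) G = _
      rw [MvPolynomial.comp_eval₂Hom, MvPolynomial.aeval_def]
      rfl
    have hβQ : Ideal.Quotient.mk Q β = 0 :=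
      Ideal.Quotient.eq_zero_iff_mem.mpr (hPQ (Ideal.Quotient.eq_zero_iff_mem.mp hβP))
    have h3 : MvPolynomial.aeval (fun i : s => (i : B ⧸ Q)) (MvPolynomial.map (Ideal.Quotient.mk p) G) = 0 := by
      rw [← hβQ]
      change _ = ((Ideal.Quotient.mk Q).comp (MvPolynomial.eval₂Hom φ b)) G
      rw [MvPolynomial.comp_eval₂Hom, MvPolynomial.aeval_def, MvPolynomial.eval₂_map]
      have h4 : (fun i : s => (i : B ⧸ Q)) = (Ideal.Quotient.mk Q) ∘ b := by
        funext i; exact (hb i).symm
      rw [h4]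
      have h5 : (algebraMap (V ⧸ p) (B ⧸ Q)).comp (Ideal.Quotient.mk p) = (Ideal.Quotient.mk Q).comp φ :=
        Ideal.quotientMap_comp_mk hp.le
      rw [h5]
      rfl
    have h6 := algebraicIndependent_iff.mp hs _ h3
    have h7 := congrArg (MvPolynomial.coeff i) h6
    rw [MvPolynomial.coeff_map, hG, map_one, MvPolynomial.coeff_zero] at h7
    exact one_ne_zero h7
  exact hind.cardinalMk_le_trdeg

end Alg

section Geo

theorem rtd_le_of_valuationRing {Y : Scheme.{u}} {V : Type u} [CommRing V] [IsDomain V] [ValuationRing V]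
    (q : Y ⟶ Spec (CommRingCat.of V)) {x ξ : Y} (h : ξ ⤳ x) (hξ : q ξ = (⊥ : PrimeSpectrum V)) :
    rtd q x ≤ rtd q ξ := by
  have hU : IsAffineOpen (⊤ : (Spec (CommRingCat.of V)).Opens) := isAffineOpen_top _
  obtain ⟨W, hW, hxW, -⟩ := exists_isAffineOpen_mem_and_subset (X := Y) (x := x) (U := ⊤) trivial
  have hξW : ξ ∈ W := h.mem_open W.2 hxW
  have e : W ≤ q ⁻¹ᵁ ⊤ := fun _ _ => trivial
  have hdom : IsDomain Γ(Spec (CommRingCat.of V), ⊤) := inferInstance
  have hval : ValuationRing Γ(Spec (CommRingCat.of V), ⊤) := by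
    let E : Γ(Spec (CommRingCat.of V), ⊤) ≃+* V :=
      (Scheme.ΓSpecIso (CommRingCat.of V)).commRingCatIsoToRingEquiv
    refine { cond' := fun a b => ?_ }
    obtain ⟨c, hc⟩ := ValuationRing.cond (E a) (E b)
    refine ⟨E.symm c, hc.imp (fun h => ?_) (fun h => ?_)⟩
    · apply E.injective
      rw [map_mul, E.apply_symm_apply, h]
    · apply E.injective
      rw [map_mul, E.apply_symm_apply, h]
  have hcomap : ∀ (z : Y) (hz : z ∈ W), (hU.primeIdealOf ⟨q z, e hz⟩).asIdeal =
      (hW.primeIdealOf ⟨z, hz⟩).asIdeal.comap (q.appLE ⊤ W e).hom := fun z hz =>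
    congrArg PrimeSpectrum.asIdeal (IsAffineOpen.comap_primeIdealOf_appLE ⊤ hU W hW e hz).symm
  have hbot : (hU.primeIdealOf ⟨q ξ, e hξW⟩).asIdeal = ⊥ := by
    have h1 : (⟨q ξ, e hξW⟩ : (⊤ : (Spec (CommRingCat.of V)).Opens)) =
        ⟨genericPoint (Spec (CommRingCat.of V)), trivial⟩ := by
      apply Subtype.ext
      rw [hξ]
      exact (genericPoint_eq_bot_of_affine (CommRingCat.of V)).symm
    have : Nonempty (⊤ : (Spec (CommRingCat.of V)).Opens) := ⟨⟨q ξ, trivial⟩⟩
    rw [h1, hU.primeIdealOf_genericPoint, genericPoint_eq_bot_of_affine]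
    rfl
  rw [rtd_eq_trd_quotientMap q hU hW e x hxW trivial _ rfl (hcomap x hxW).le,
    rtd_eq_trd_quotientMap q hU hW e ξ hξW trivial ⊥ hbot.symm (by rw [← hbot]; exact (hcomap ξ hξW).le)]
  refine trd_quotientMap_le _ _ _ _ ?_ (hcomap x hxW) (by rw [← hbot]; exact (hcomap ξ hξW))
  exact primeIdealOf_le_of_specializes hW h hxW hξW

variable {X S : Scheme.{u}}

/-- A specialization in a scheme is dominated by a valuation ring. -/
theorem exists_valuationRing {η s : S} (h : η ⤳ s) :
    ∃ (V : Type u) (_ : CommRing V) (_ : IsDomain V) (_ : ValuationRing V) (_ : IsLocalRing V)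
      (g : Spec (CommRingCat.of V) ⟶ S), g (IsLocalRing.closedPoint V) = s ∧ g (⊥ : PrimeSpectrum V) = η := by
  let φ : S.presheaf.stalk s →+* S.residueField η :=
    (S.residue η).hom.comp (S.presheaf.stalkSpecializes h).hom
  obtain ⟨A, hA, hloc⟩ := IsLocalRing.exists_factor_valuationRing φ
  let ψ : S.presheaf.stalk s →+* A := φ.codRestrict A.toSubring hA
  have hψ : IsLocalHom ψ := hloc
  refine ⟨A, inferInstance, inferInstance, inferInstance, inferInstance,
    Spec.map (CommRingCat.ofHom ψ) ≫ S.fromSpecStalk s, ?_, ?_⟩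
  · rw [Scheme.Hom.comp_apply]
    have h1 : Spec.map (CommRingCat.ofHom ψ) (IsLocalRing.closedPoint A) =
        IsLocalRing.closedPoint (S.presheaf.stalk s) := IsLocalRing.comap_closedPoint ψ
    rw [h1, Scheme.fromSpecStalk_closedPoint]
  · let ι : CommRingCat.of A ⟶ S.residueField η := CommRingCat.ofHom A.subtype
    have h1 : Spec.map ι ≫ Spec.map (CommRingCat.ofHom ψ) ≫ S.fromSpecStalk s = S.fromSpecResidueField η := by
      rw [← Category.assoc, ← Spec.map_comp]
      have h2 : CommRingCat.ofHom ψ ≫ ι = S.presheaf.stalkSpecializes h ≫ S.residue η := rfl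
      rw [h2, Spec.map_comp, Category.assoc, Scheme.SpecMap_stalkSpecializes_fromSpecStalk]
      rfl
    have h3 : Spec.map ι (⊥ : PrimeSpectrum (S.residueField η)) = (⊥ : PrimeSpectrum A) := by
      apply PrimeSpectrum.ext
      change Ideal.comap A.subtype ⊥ = ⊥
      exact Ideal.comap_bot_of_injective _ Subtype.val_injective
    rw [← h3, ← Scheme.Hom.comp_apply, h1, Scheme.fromSpecResidueField_apply]

/-- Generizations lift along a universally open morphism without loss of transcendence degree. -/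
theorem exists_generization (f : X ⟶ S) [UniversallyOpen f] (x : X) {η : S} (hη : η ⤳ f x) :
    ∃ ξ : X, ξ ⤳ x ∧ f ξ = η ∧ rtd f x ≤ rtd f ξ := by
  obtain ⟨V, _, _, _, _, g, hg, hg'⟩ := exists_valuationRing hη
  have H := IsPullback.of_hasPullback f g
  obtain ⟨z, hz, hz', hle⟩ := Groth.Agent.Sga2lef.H98.Rtd.exists_lift H x (IsLocalRing.closedPoint V) hg.symm
  have hgen := Groth.Agent.Ega43.OpenUniv.generalizingMap_of_isOpenMap (Limits.pullback.snd f g)
    (Limits.pullback.snd f g).isOpenMap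
  obtain ⟨ξ', hξ', hξ''⟩ := hgen (a := z) (b := (⊥ : PrimeSpectrum V))
    ((PrimeSpectrum.le_iff_specializes _ _).mp bot_le)
  refine ⟨Limits.pullback.fst f g ξ', ?_, ?_, ?_⟩
  · rw [← hz]
    exact hξ'.map (Limits.pullback.fst f g).continuous
  · rw [← hg', ← hξ'', ← Scheme.Hom.comp_apply, ← Scheme.Hom.comp_apply, Limits.pullback.condition]
  · exact hle.trans ((rtd_le_of_valuationRing _ hξ' hξ'').trans (Groth.Agent.Sga2lef.H98.Rtd.rtd_snd_le H ξ'))

theorem ct_of_universallyOpen (f : X ⟶ S) [LocallyOfFiniteType f] [UniversallyOpen f] (x : X) :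
    CondT.CT f x := by
  refine CondT.ct_of_maximal f (fun x _ => ?_) x
  obtain ⟨η, hη, hηx⟩ := Groth.Agent.Ega4fib.H174.Equidim.exists_maximal_specializes (f x)
  obtain ⟨ξ, hξ, hfξ, hle⟩ := exists_generization f x hηx
  obtain ⟨ζ, hζ, hζξ⟩ := Groth.Agent.Ega4fib.H174.Equidim.exists_maximal_specializes ξ
  have hfζ : f ζ = η := by
    apply hη
    rw [← hfξ]
    exact hζξ.map f.continuous
  refine ⟨ζ, hζ, hζξ.trans hξ, fun y hy => ?_, hle.trans (rtd_le_of_specializes f hζξ (hfζ.trans hfξ.symm))⟩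
  rw [hfζ] at hy ⊢
  exact hη y hy

end Geo

end K812.OpenT
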