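import Mathlib
import Groth.Agent.FlatA.GenericFree2

/-!
# Sections of flat algebras detected on étale quasi-sections: module theory
-/

set_option autoImplicit false
universe u v w

open TensorProduct

namespace Groth.Agent.FamCyc.K812.QSDom

section Colon

variable {R : Type u} {M : Type v} [CommRing R] [AddCommGroup M] [Module R M]

theorem exists_sum_of_mem_smul_top {I : Ideal R} {c : M} (h : c ∈ I • (⊤ : Submodule R M)) :
    ∃ (n : ℕ) (i : Fin n → R) (d : Fin n → M), (∀ k, i k ∈ I) ∧ c = ∑ k, i k • d k := by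
  refine Submodule.smul_induction_on h ?_ ?_
  · intro r hr m _
    exact ⟨1, fun _ => r, fun _ => m, fun _ => hr, by simp⟩
  · rintro x y ⟨n, i, d, hi, rfl⟩ ⟨n', i', d', hi', rfl⟩
    refine ⟨n + n', Fin.append i i', Fin.append d d', ?_, ?_⟩
    · intro k
      refine Fin.addCases (fun k => ?_) (fun k => ?_) k
      · rw [Fin.append_left]; exact hi k
      · rw [Fin.append_right]; exact hi' k
    · rw [Fin.sum_univ_add]
      simp

/-- If `M` is flat and `a m ∈ I M` then `m ∈ J M` for every ideal `J` containing `(I : a)`. -/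
theorem mem_smul_top_of_flat [Module.Flat R M] {I J : Ideal R} {a : R} (hJ : ∀ b, a * b ∈ I → b ∈ J)
    {m : M} (h : a • m ∈ I • (⊤ : Submodule R M)) : m ∈ J • (⊤ : Submodule R M) := by
  obtain ⟨n, i, d, hi, hs⟩ := exists_sum_of_mem_smul_top h
  have hrel : ∑ k : Option (Fin n), (Option.elim k a (fun k => - i k)) • (Option.elim k m d) = 0 := by
    rw [Fintype.sum_option]
    simp only [Option.elim_none, Option.elim_some, neg_smul, Finset.sum_neg_distrib]
    rw [← hs]
    exact add_neg_cancel _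
  obtain ⟨k', b, y, hxy, ha⟩ := Module.Flat.isTrivialRelation_of_sum_smul_eq_zero hrel
  have h1 := hxy none
  simp only [Option.elim_none] at h1
  rw [h1]
  refine Submodule.sum_mem _ fun j _ => ?_
  refine Submodule.smul_mem_smul (hJ _ ?_) trivial
  have h2 := ha j
  rw [Fintype.sum_option] at h2
  simp only [Option.elim_none, Option.elim_some, neg_mul, Finset.sum_neg_distrib] at h2
  rw [add_neg_eq_zero] at h2
  rw [h2]
  exact Ideal.sum_mem _ fun k _ => Ideal.mul_mem_right _ _ (hi k)

/-- A nonzero element of a flat module over a Noetherian ring is nonzero in one graded piece at some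
prime. -/
theorem exists_colon [IsNoetherianRing R] [Module.Flat R M] {t : M} (ht : t ≠ 0) :
    ∃ (J p : Ideal R) (σ : R) (m : M), p.IsPrime ∧ (∀ a, a ∈ p ↔ σ * a ∈ J) ∧
      t - σ • m ∈ J • (⊤ : Submodule R M) ∧ ∀ a ∉ p, a • m ∉ p • (⊤ : Submodule R M) := by
  let S : Set (Ideal R) := {J | t ∉ J • (⊤ : Submodule R M)}
  have hS : S.Nonempty := ⟨⊥, by simp [S, ht]⟩
  obtain ⟨J, hJ, hmax⟩ := set_has_maximal_iff_noetherian.mpr
    (inferInstance : IsNoetherian R R) S hS
  have hJt : t ∉ J • (⊤ : Submodule R M) := hJ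
  have hmax' : ∀ J' : Ideal R, J < J' → t ∈ J' • (⊤ : Submodule R M) := by
    intro J' h
    by_contra h'
    exact hmax J' h' h
  have hJtop : J ≠ ⊤ := by
    rintro rfl
    apply hJt
    rw [Submodule.top_smul]
    trivial
  have : Nontrivial (R ⧸ J) := Ideal.Quotient.nontrivial_iff.mpr hJtop
  obtain ⟨p, hpa⟩ := associatedPrimes.nonempty R (R ⧸ J)
  obtain ⟨hpp, x, hx⟩ := isAssociatedPrime_iff.mp hpa
  obtain ⟨σ, rfl⟩ := Ideal.Quotient.mk_surjective x
  have hp : ∀ a, a ∈ p ↔ σ * a ∈ J := by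
    intro a
    rw [hx, Submodule.mem_colon_singleton, Submodule.mem_bot, ← Ideal.Quotient.eq_zero_iff_mem,
      mul_comm, map_mul]
    exact Iff.rfl
  have hσ : σ ∉ J := by
    intro h
    apply hpp.ne_top
    rw [Ideal.eq_top_iff_one, hp, mul_one]
    exact h
  have hJp : J ≤ p := fun a ha => (hp a).mpr (Ideal.mul_mem_left _ _ ha)
  have key : ∀ c : R, c ∉ J → ∃ m : M, t - c • m ∈ J • (⊤ : Submodule R M) := by
    intro c hc
    have h1 : t ∈ (J ⊔ Ideal.span {c}) • (⊤ : Submodule R M) := by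
      refine hmax' _ (lt_of_le_of_ne le_sup_left fun h => hc ?_)
      rw [h]
      exact Ideal.mem_sup_right (Ideal.mem_span_singleton_self c)
    rw [Submodule.sup_smul, Submodule.mem_sup] at h1
    obtain ⟨j, hj, m', hm', hjm⟩ := h1
    rw [Submodule.ideal_span_singleton_smul] at hm'
    obtain ⟨m, -, rfl⟩ := Submodule.mem_smul_pointwise_iff_exists _ _ _ |>.mp hm'
    exact ⟨m, by rw [← hjm]; simpa using hj⟩
  obtain ⟨m, hm⟩ := key σ hσ
  refine ⟨J, p, σ, m, hpp, hp, hm, ?_⟩
  intro a ha hmem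
  -- `a t ∈ J M`
  have hat : a • t ∈ J • (⊤ : Submodule R M) := by
    have h1 : a • t = a • (t - σ • m) + σ • (a • m) := by
      rw [smul_sub, smul_comm σ a m]; abel
    rw [h1]
    refine Submodule.add_mem _ (Submodule.smul_mem _ _ hm) ?_
    obtain ⟨n, i, d, hi, hs⟩ := exists_sum_of_mem_smul_top hmem
    rw [hs, Finset.smul_sum]
    refine Submodule.sum_mem _ fun k _ => ?_
    rw [smul_smul]
    exact Submodule.smul_mem_smul ((hp _).mp (hi k)) trivial
  -- the chain `(J : a ^ n)`
  let C : ℕ →o Ideal R :=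
    { toFun := fun n => J.colon {a ^ n}
      monotone' := by
        intro n n' h x hx
        rw [Submodule.mem_colon_singleton] at hx ⊢
        obtain ⟨l, rfl⟩ := Nat.exists_eq_add_of_le h
        rw [pow_add, mul_comm, smul_eq_mul, mul_left_comm]
        exact Ideal.mul_mem_left _ _ hx }
  obtain ⟨n, hn⟩ := monotone_stabilizes_iff_noetherian.mpr (inferInstance : IsNoetherian R R) C
  have hC : ∀ x, a ^ (2 * (n + 1)) * x ∈ J → a ^ (n + 1) * x ∈ J := by
    intro x hx
    have h1 : x ∈ C (2 * (n + 1)) := by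
      change x ∈ J.colon {a ^ (2 * (n + 1))}
      rw [Submodule.mem_colon_singleton, smul_eq_mul, mul_comm]
      exact hx
    rw [← hn _ (by omega), hn (n + 1) (by omega)] at h1
    change x ∈ J.colon {a ^ (n + 1)} at h1
    rw [Submodule.mem_colon_singleton, smul_eq_mul, mul_comm] at h1
    exact h1
  have haJ : a ^ (n + 1) ∉ J := fun h => ha (hpp.mem_of_pow_mem _ (hJp h))
  obtain ⟨m₁, hm₁⟩ := key _ haJ
  have h2 : a ^ (2 * (n + 1)) • m₁ ∈ J • (⊤ : Submodule R M) := by
    have h3 : a ^ (2 * (n + 1)) • m₁ = a ^ n • (a • t) - a ^ (n + 1) • (t - a ^ (n + 1) • m₁) := by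
      rw [smul_sub, smul_smul, smul_smul, ← pow_succ, ← pow_add, sub_sub_cancel]
      congr 2
      ring
    rw [h3]
    exact Submodule.sub_mem _ (Submodule.smul_mem _ _ hat) (Submodule.smul_mem _ _ hm₁)
  have h4 : m₁ ∈ (J.colon {a ^ (n + 1)}) • (⊤ : Submodule R M) := by
    refine mem_smul_top_of_flat (fun b hb => ?_) h2
    rw [Submodule.mem_colon_singleton, smul_eq_mul, mul_comm]
    exact hC b hb
  have h5 : a ^ (n + 1) • m₁ ∈ J • (⊤ : Submodule R M) := by
    obtain ⟨l, i, d, hi, hs⟩ := exists_sum_of_mem_smul_top h4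
    rw [hs, Finset.smul_sum]
    refine Submodule.sum_mem _ fun k _ => ?_
    rw [smul_smul]
    refine Submodule.smul_mem_smul ?_ trivial
    have := hi k
    rwa [Submodule.mem_colon_singleton, smul_eq_mul, mul_comm] at this
  apply hJt
  have h6 := Submodule.add_mem _ hm₁ h5
  rwa [sub_add_cancel] at h6

end Colon

end Groth.Agent.FamCyc.K812.QSDom
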