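import Groth.Agent.FamCyc.K812.QSDom1

set_option autoImplicit false
universe u v w

open TensorProduct

namespace Groth.Agent.FamCyc.K812.QSDom

open Groth.Agent.FlatA.GenericFree

/-- A nonzero element of a torsion free module which becomes free after inverting an element is
generically nonzero in the fibres. -/
theorem FreeAway.exists_fibre {R : Type u} {M : Type v} [CommRing R] [IsDomain R] [AddCommGroup M]
    [Module R M] [Module.IsTorsionFree R M] {f : R} (hf : f ≠ 0) (h : FreeAway R M f) {m : M}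
    (hm : m ≠ 0) : ∃ e : R, e ≠ 0 ∧ ∀ x : Ideal R, x.IsPrime → e ∉ x → ∀ b ∉ x,
      b • m ∉ x • (⊤ : Submodule R M) := by
  classical
  obtain ⟨s, hs, hspan⟩ := h
  obtain ⟨k, hk⟩ := hspan m
  have hfk : f ^ k ≠ 0 := pow_ne_zero _ hf
  have hs' : LinearIndependent R ((↑) : s → M) := hs
  have hkm : f ^ k • m ∈ Submodule.span R (Set.range ((↑) : s → M)) := by
    rwa [Subtype.range_coe]
  let c : s →₀ R := hs'.repr ⟨f ^ k • m, hkm⟩
  have hc0 : c ≠ 0 := by
    intro h0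
    have h1 : (⟨f ^ k • m, hkm⟩ : Submodule.span R (Set.range ((↑) : s → M))) = 0 := by
      exact LinearMap.ker_eq_bot'.mp hs'.repr_ker _ h0
    have h2 : f ^ k • m = 0 := congrArg Subtype.val h1
    exact (smul_ne_zero hfk hm) h2
  obtain ⟨i, hi⟩ := Finsupp.ne_iff.mp hc0
  refine ⟨f * c i, mul_ne_zero hf hi, ?_⟩
  intro x hx hex b hb hbm
  obtain ⟨n, j, d, hj, hsum⟩ := exists_sum_of_mem_smul_top hbm
  choose l hl using fun t => hspan (d t)
  let L := ∑ t, l t
  have hL : ∀ t, f ^ L • d t ∈ Submodule.span R (Set.range ((↑) : s → M)) := by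
    intro t
    have h1 : l t ≤ L := Finset.single_le_sum (fun _ _ => Nat.zero_le _) (Finset.mem_univ t)
    obtain ⟨r, hr⟩ := Nat.exists_eq_add_of_le h1
    rw [hr, pow_add, mul_comm, mul_smul, Subtype.range_coe]
    exact Submodule.smul_mem _ _ (hl t)
  have h2 : (b * f ^ L) • (⟨f ^ k • m, hkm⟩ : Submodule.span R (Set.range ((↑) : s → M))) =
      ∑ t, (f ^ k * j t) • (⟨f ^ L • d t, hL t⟩ : Submodule.span R (Set.range ((↑) : s → M))) := by
    apply Subtype.ext
    simp only [Submodule.coe_smul, Submodule.coe_sum]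
    rw [show (b * f ^ L) • f ^ k • m = (f ^ L * f ^ k) • (b • m) by
      rw [smul_smul, smul_smul]; congr 1; ring, hsum, Finset.smul_sum]
    refine Finset.sum_congr rfl fun t _ => ?_
    rw [smul_smul, smul_smul]
    congr 1
    ring
  have h3 := congrArg (fun v => hs'.repr v i) h2
  simp only [map_smul, map_sum, Finsupp.smul_apply, Finsupp.finsetSum_apply, smul_eq_mul] at h3
  have h4 : b * f ^ L * c i ∈ x := by
    change b * f ^ L * (hs'.repr ⟨f ^ k • m, hkm⟩) i ∈ x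
    rw [h3]
    exact Ideal.sum_mem _ fun t _ => Ideal.mul_mem_right _ _ (Ideal.mul_mem_left _ _ (hj t))
  have hfx : f ∉ x := fun h => hex (Ideal.mul_mem_right _ _ h)
  have hcx : c i ∉ x := fun h => hex (Ideal.mul_mem_left _ _ h)
  rcases hx.mem_or_mem h4 with h5 | h5
  · rcases hx.mem_or_mem h5 with h6 | h6
    · exact hb h6
    · exact hfx (hx.mem_of_pow_mem _ h6)
  · exact hcx h5

/-- An element vanishing in a fibre at a field valued point. -/
theorem exists_smul_mem_of_tmul_eq_zero {P : Type u} {M : Type v} [CommRing P] [AddCommGroup M]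
    [Module P M] (x : Ideal P) [x.IsPrime] (κ : Type w) [Field κ] [Algebra P κ]
    (hκ : RingHom.ker (algebraMap P κ) = x) {m : M} (h : (1 : κ) ⊗ₜ[P] m = 0) :
    ∃ b ∉ x, b • m ∈ x • (⊤ : Submodule P M) := by
  let Q := P ⧸ x
  let K := FractionRing Q
  let φ : Q →+* κ := Ideal.Quotient.lift x (algebraMap P κ) (fun a ha => by
    rw [← hκ] at ha; exact ha)
  have hφ : Function.Injective φ := by
    refine (injective_iff_map_eq_zero _).mpr fun a ha => ?_
    obtain ⟨a, rfl⟩ := Ideal.Quotient.mk_surjective a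
    have h1 : a ∈ x := by rw [← hκ]; exact ha
    exact Ideal.Quotient.eq_zero_iff_mem.mpr h1
  let _ : Algebra Q κ := φ.toAlgebra
  have : IsScalarTower P Q κ := IsScalarTower.of_algebraMap_eq fun _ => rfl
  let ψ : K →+* κ := IsFractionRing.lift hφ
  let _ : Algebra K κ := ψ.toAlgebra
  have : IsScalarTower Q K κ := IsScalarTower.of_algebraMap_eq fun a => by
    change φ a = ψ (algebraMap Q K a)
    exact (IsFractionRing.lift_algebraMap hφ a).symm
  let N := Q ⊗[P] M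
  let e1 : κ ⊗[Q] N ≃ₗ[κ] κ ⊗[P] M := AlgebraTensorModule.cancelBaseChange P Q κ κ M
  let e2 : κ ⊗[K] (K ⊗[Q] N) ≃ₗ[κ] κ ⊗[Q] N := AlgebraTensorModule.cancelBaseChange Q K κ κ N
  have h1 : e1 (e2 (1 ⊗ₜ (1 ⊗ₜ (1 ⊗ₜ m)))) = 0 := by
    have h2 : e2 (1 ⊗ₜ (1 ⊗ₜ (1 ⊗ₜ m))) = 1 ⊗ₜ (1 ⊗ₜ m) := by
      refine (AlgebraTensorModule.cancelBaseChange_tmul Q K κ _ _ _).trans ?_
      rw [one_smul]
    have h3 : e1 (1 ⊗ₜ (1 ⊗ₜ m)) = 1 ⊗ₜ m := by
      refine (AlgebraTensorModule.cancelBaseChange_tmul P Q κ _ _ _).trans ?_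
      rw [one_smul]
    rw [h2, h3, h]
  have h2 : (1 : κ) ⊗ₜ[K] ((1 : K) ⊗ₜ[Q] ((1 : Q) ⊗ₜ[P] m)) = 0 := by
    rwa [LinearEquiv.map_eq_zero_iff, LinearEquiv.map_eq_zero_iff] at h1
  have h3 : (1 : K) ⊗ₜ[Q] ((1 : Q) ⊗ₜ[P] m) = 0 := by
    apply Module.FaithfullyFlat.tensorProduct_mk_injective (A := K) (B := κ) (K ⊗[Q] N)
    rw [map_zero]
    exact h2
  have : IsLocalizedModule (nonZeroDivisors Q) (TensorProduct.mk Q K N 1) :=
    (isLocalizedModule_iff_isBaseChange (nonZeroDivisors Q) K _).mpr (TensorProduct.isBaseChange Q N K)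
  obtain ⟨⟨b, hb⟩, hb'⟩ := (IsLocalizedModule.eq_zero_iff (nonZeroDivisors Q)
    (TensorProduct.mk Q K N 1)).mp h3
  obtain ⟨b, rfl⟩ := Ideal.Quotient.mk_surjective b
  refine ⟨b, fun h => ?_, ?_⟩
  · rw [Ideal.Quotient.eq_zero_iff_mem.mpr h] at hb
    exact zero_notMem_nonZeroDivisors hb
  · have h4 : (1 : Q) ⊗ₜ[P] (b • m) = 0 := by
      rw [TensorProduct.tmul_smul]
      exact hb'
    have h5 := congrArg (TensorProduct.quotTensorEquivQuotSMul M x) h4
    rw [map_zero] at h5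
    have h6 := TensorProduct.quotTensorEquivQuotSMul_mk_one_tmul x (b • m)
    exact (Submodule.Quotient.mk_eq_zero _).mp (h6.symm.trans h5)

end Groth.Agent.FamCyc.K812.QSDom
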