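import Groth.Agent.FamCyc.K812.QSDom2
import Groth.Agent.FlatA.EtaleSections

set_option autoImplicit false
universe u v w

open TensorProduct AlgebraicGeometry CategoryTheory

namespace Groth.Agent.FamCyc.K812.QSDom

open Groth.Agent.FlatA.GenericFree

theorem isPrime_map_C {A : Type u} [CommRing A] {σ : Type v} (p : Ideal A) [p.IsPrime] :
    (p.map (MvPolynomial.C : A →+* MvPolynomial σ A)).IsPrime := by
  rw [← Ideal.Quotient.isDomain_iff_prime]
  exact (MvPolynomial.quotientEquivQuotientMvPolynomial p).symm.toMulEquiv.isDomain _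

/-- A prime of the polynomial ring, a local quasi-section through a good point. -/
theorem exists_slice (R : Type u) [CommRing R] (n : ℕ) (p : Ideal R) [p.IsPrime]
    (e : MvPolynomial (Fin n) R) (he : e ∉ p.map (MvPolynomial.C : R →+* MvPolynomial (Fin n) R)) :
    ∃ (D : Type u) (_ : CommRing D) (_ : Algebra (MvPolynomial (Fin n) R) D) (_ : Algebra R D)
      (_ : IsScalarTower R (MvPolynomial (Fin n) R) D) (Q : Ideal D), Algebra.Etale R D ∧
      IsImmersion (Spec.map (CommRingCat.ofHom (algebraMap (MvPolynomial (Fin n) R) D))) ∧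
      Q.IsPrime ∧ IsUnit (algebraMap (MvPolynomial (Fin n) R) D e) ∧
      Q.comap (algebraMap R D) = p := by
  let P := MvPolynomial (Fin n) R
  let Pe := Localization.Away e
  have hpP : (p.map (MvPolynomial.C : R →+* P)).IsPrime := isPrime_map_C p
  have : Algebra.Smooth R P := ⟨inferInstance, inferInstance⟩
  have : Algebra.Smooth R Pe := Algebra.Smooth.comp R P Pe
  let φ : CommRingCat.of R ⟶ CommRingCat.of Pe := CommRingCat.ofHom (algebraMap R Pe)
  let π : CommRingCat.of P ⟶ CommRingCat.of Pe := CommRingCat.ofHom (algebraMap P Pe)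
  have hφ : Smooth (Spec.map φ) := HasRingHomProperty.Spec_iff.mpr
    (RingHom.smooth_algebraMap.mpr inferInstance)
  -- the point
  have hdisj : Disjoint (Submonoid.powers e : Set P) (p.map (MvPolynomial.C : R →+* P)) :=
    (Ideal.disjoint_powers_iff_notMem _ hpP.isRadical).mpr he
  let q₀ : Ideal Pe := (p.map (MvPolynomial.C : R →+* P)).map (algebraMap P Pe)
  have hq₀ : q₀.IsPrime := IsLocalization.isPrime_of_isPrime_disjoint (Submonoid.powers e) Pe _ hpP hdisj
  have hq₀' : q₀.comap (algebraMap P Pe) = p.map (MvPolynomial.C : R →+* P) :=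
    IsLocalization.under_map_of_isPrime_disjoint (Submonoid.powers e) Pe hpP hdisj
  have hq₀'' : q₀.comap (algebraMap R Pe) = p := by
    rw [IsScalarTower.algebraMap_eq R P Pe, ← Ideal.comap_comap, hq₀']
    ext x
    rw [Ideal.mem_comap]
    constructor
    · intro h
      have h1 := MvPolynomial.mem_map_C_iff.mp h 0
      rwa [MvPolynomial.algebraMap_eq, MvPolynomial.coeff_zero_C] at h1
    · intro h
      exact Ideal.mem_map_of_mem _ h
  let x₀ : Spec (CommRingCat.of Pe) := ⟨q₀, hq₀⟩
  obtain ⟨Z, i, z, hi, het, hfz, -⟩ := Groth.Agent.FlatA.EtaleSections.exists_etale_slice_over (Spec.map φ) x₀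
  obtain ⟨_, ⟨W, hW, rfl⟩, hzW, -⟩ :=
    Z.isBasis_affineOpens.exists_subset_of_mem_open (Set.mem_univ z) isOpen_univ
  let D := Γ(Z, W)
  have hW' : IsAffineOpen W := hW
  let ψ : CommRingCat.of Pe ⟶ D := Spec.preimage (hW'.fromSpec ≫ i)
  have hψ : Spec.map ψ = hW'.fromSpec ≫ i := Spec.map_preimage _
  let z' : Spec D := hW'.primeIdealOf ⟨z, hzW⟩
  have hz' : hW'.fromSpec z' = z := hW'.fromSpec_primeIdealOf ⟨z, hzW⟩
  let a1 : Algebra P D := (π ≫ ψ).hom.toAlgebra
  let a2 : Algebra R D := (φ ≫ ψ).hom.toAlgebra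
  have a3 : IsScalarTower R P D := IsScalarTower.of_algebraMap_eq fun x => by
    change ψ (algebraMap R Pe x) = ψ (algebraMap P Pe (algebraMap R P x))
    rw [← IsScalarTower.algebraMap_apply R P Pe]
  have hcomp : Spec.map (φ ≫ ψ) = hW'.fromSpec ≫ i ≫ Spec.map φ := by
    rw [Spec.map_comp, hψ, Category.assoc]
  have het' : Etale (Spec.map (φ ≫ ψ)) := by rw [hcomp]; infer_instance
  have himm : IsImmersion (Spec.map (π ≫ ψ)) := by
    have h1 : IsOpenImmersion (Spec.map π) := by
      dsimp only [π]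
      infer_instance
    rw [Spec.map_comp, hψ]
    infer_instance
  refine ⟨D, inferInstance, a1, a2, a3, z'.asIdeal, ?_, himm, z'.isPrime, ?_, ?_⟩
  · exact HasRingHomProperty.Spec_iff.mp het'
  · change IsUnit (ψ (algebraMap P Pe e))
    exact (IsLocalization.Away.algebraMap_isUnit e).map ψ.hom
  · have h1 : Spec.map (φ ≫ ψ) z' = Spec.map φ x₀ := by
      rw [hcomp, Scheme.Hom.comp_apply, Scheme.Hom.comp_apply, hz', hfz]
    have h2 := congrArg PrimeSpectrum.asIdeal h1
    exact h2.trans hq₀''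

end Groth.Agent.FamCyc.K812.QSDom
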