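import Groth.Agent.FamCyc.K812.QSDom3

set_option autoImplicit false
universe u v w

open TensorProduct AlgebraicGeometry CategoryTheory

namespace Groth.Agent.FamCyc.K812.QSDom

open Groth.Agent.FlatA.GenericFree

/-- Elements of the extension of an ideal die in the fibre at a prime above it. -/
theorem tmul_eq_zero_of_mem {R D C κ : Type u} [CommRing R] [CommRing D] [Algebra R D]
    {P : Type u} [CommRing P] [Algebra R P] [Algebra P D] [IsScalarTower R P D]
    [CommRing C] [Algebra P C] [Field κ] [Algebra D κ] [Algebra P κ] [IsScalarTower P D κ]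
    (p : Ideal R) (hp : ∀ a ∈ p, algebraMap D κ (algebraMap R D a) = 0) (m : C)
    (h : (1 : D) ⊗ₜ[P] m ∈ p • (⊤ : Submodule R (D ⊗[P] C))) : (1 : κ) ⊗ₜ[P] m = 0 := by
  obtain ⟨n, i, d, hi, hs⟩ := exists_sum_of_mem_smul_top h
  let θ : D ⊗[P] C →ₐ[P] κ ⊗[P] C :=
    Algebra.TensorProduct.map (IsScalarTower.toAlgHom P D κ) (AlgHom.id P C)
  have h1 : θ ((1 : D) ⊗ₜ[P] m) = (1 : κ) ⊗ₜ[P] m := by
    refine (Algebra.TensorProduct.map_tmul _ _ _ _).trans ?_
    rw [map_one]
    rfl
  have h2 : ∀ (a : R) (x : D ⊗[P] C), a ∈ p → θ (a • x) = 0 := by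
    intro a x ha
    have h3 : a • x = (algebraMap R D a ⊗ₜ[P] (1 : C)) * x := by
      rw [← algebraMap_smul D a x, Algebra.smul_def]
      rfl
    have h4 : θ (algebraMap R D a ⊗ₜ[P] (1 : C)) = 0 := by
      refine (Algebra.TensorProduct.map_tmul _ _ _ _).trans ?_
      have : (IsScalarTower.toAlgHom P D κ) (algebraMap R D a) = 0 := hp a ha
      rw [this, zero_tmul]
    rw [h3, map_mul, h4, zero_mul]
  rw [← h1, hs, map_sum]
  exact Finset.sum_eq_zero fun k _ => h2 _ _ (hi k)

theorem noeth (R : Type u) [CommRing R] [IsNoetherianRing R] (n : ℕ) (C : Type u) [CommRing C]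
    [Algebra (MvPolynomial (Fin n) R) C] [Algebra.FiniteType (MvPolynomial (Fin n) R) C]
    [Module.Flat (MvPolynomial (Fin n) R) C] (t : C) (ht : t ≠ 0) :
    ∃ (D : Type u) (_ : CommRing D) (_ : Algebra (MvPolynomial (Fin n) R) D) (_ : Algebra R D)
      (_ : IsScalarTower R (MvPolynomial (Fin n) R) D), Algebra.Etale R D ∧
      IsImmersion (Spec.map (CommRingCat.ofHom (algebraMap (MvPolynomial (Fin n) R) D))) ∧
      (1 : D) ⊗ₜ[MvPolynomial (Fin n) R] t ≠ 0 := by
  let P := MvPolynomial (Fin n) R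
  let _ : Algebra R C := ((algebraMap P C).comp (algebraMap R P)).toAlgebra
  have : IsScalarTower R P C := IsScalarTower.of_algebraMap_eq' rfl
  have hRC : Module.Flat R C := Module.Flat.trans R P C
  obtain ⟨J, p, σ, m, hp, hpJ, htm, hm⟩ := exists_colon (R := R) (M := C) ht
  let pP : Ideal P := p.map (MvPolynomial.C : R →+* P)
  have hpP : pP.IsPrime := isPrime_map_C p
  let Pb := P ⧸ pP
  let Cb := Pb ⊗[P] C
  have hdom : IsDomain Pb := inferInstance
  have hmb : (1 : Pb) ⊗ₜ[P] m ≠ 0 := by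
    intro h
    have h5 := congrArg (TensorProduct.quotTensorEquivQuotSMul C pP) h
    rw [map_zero] at h5
    have h6 := TensorProduct.quotTensorEquivQuotSMul_mk_one_tmul pP m
    have h7 : m ∈ pP • (⊤ : Submodule P C) :=
      (Submodule.Quotient.mk_eq_zero _).mp (h6.symm.trans h5)
    rw [Ideal.smul_top_eq_map] at h7
    have h8 : m ∈ p • (⊤ : Submodule R C) := by
      rw [Ideal.smul_top_eq_map]
      have h9 : m ∈ pP.map (algebraMap P C) := h7
      rw [Ideal.map_map] at h9
      exact h9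
    refine hm 1 (fun h => hp.ne_top ((Ideal.eq_top_iff_one _).mpr h)) ?_
    rwa [one_smul]
  obtain ⟨f, hf, hfree⟩ := genFree_of_finiteType (R := Pb) Cb Cb
  obtain ⟨e, he, hfib⟩ := FreeAway.exists_fibre hf hfree hmb
  obtain ⟨e, rfl⟩ := Ideal.Quotient.mk_surjective e
  have he' : e ∉ pP := fun h => he (Ideal.Quotient.eq_zero_iff_mem.mpr h)
  obtain ⟨D, _, _, _, _, Q, het, himm, hQ, hunit, hQp⟩ := exists_slice R n p e he'
  refine ⟨D, inferInstance, inferInstance, inferInstance, inferInstance, het, himm, ?_⟩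
  intro h0
  let N := D ⊗[P] C
  have hflat : Module.Flat R N := Module.Flat.trans R D N
  -- `σ m = 0` modulo `J` on the slice
  have h1 : σ • ((1 : D) ⊗ₜ[P] m) ∈ J • (⊤ : Submodule R N) := by
    let L : C →ₗ[R] N := (TensorProduct.mk P D C 1).restrictScalars R
    have h4 : L (t - σ • m) ∈ J • (⊤ : Submodule R N) :=
      Submodule.smul_top_le_comap_smul_top J L htm
    have h5 : L t = 0 := h0
    rw [map_sub, h5, zero_sub, map_smul] at h4
    exact (Submodule.neg_mem_iff _).mp h4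
  have h2 : (1 : D) ⊗ₜ[P] m ∈ p • (⊤ : Submodule R N) :=
    mem_smul_top_of_flat (fun b hb => (hpJ b).mpr hb) h1
  let x : Ideal P := Q.comap (algebraMap P D)
  have hx : x.IsPrime := inferInstance
  let κ := Q.ResidueField
  have h3 : (1 : κ) ⊗ₜ[P] m = 0 := by
    refine tmul_eq_zero_of_mem p (fun a ha => ?_) m h2
    rw [Ideal.algebraMap_residueField_eq_zero]
    rw [← hQp] at ha
    exact ha
  have hker : RingHom.ker (algebraMap P κ) = x := by
    ext a
    rw [RingHom.mem_ker, IsScalarTower.algebraMap_apply P D κ, Ideal.algebraMap_residueField_eq_zero]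
    rfl
  obtain ⟨b, hb, hbm⟩ := exists_smul_mem_of_tmul_eq_zero x κ hker h3
  have hpx : pP ≤ x := by
    rw [Ideal.map_le_iff_le_comap]
    intro a ha
    rw [← hQp] at ha
    change algebraMap P D (algebraMap R P a) ∈ Q
    rw [← IsScalarTower.algebraMap_apply]
    exact ha
  have hxb : (x.map (Ideal.Quotient.mk pP)).IsPrime :=
    Ideal.map_isPrime_of_surjective Ideal.Quotient.mk_surjective (by rwa [Ideal.mk_ker])
  refine hfib (x.map (Ideal.Quotient.mk pP)) hxb ?_ (Ideal.Quotient.mk pP b) ?_ ?_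
  · rw [Ideal.mem_quotient_iff_mem hpx]
    intro h
    exact hQ.ne_top (Ideal.eq_top_of_isUnit_mem _ h hunit)
  · rwa [Ideal.mem_quotient_iff_mem hpx]
  · obtain ⟨l, i, d, hi, hs⟩ := exists_sum_of_mem_smul_top hbm
    have h4 : (Ideal.Quotient.mk pP b) • ((1 : Pb) ⊗ₜ[P] m) =
        ∑ k, (Ideal.Quotient.mk pP (i k)) • ((1 : Pb) ⊗ₜ[P] d k) := by
      have h5 : ∀ (a : P) (c : C), (Ideal.Quotient.mk pP a) • ((1 : Pb) ⊗ₜ[P] c) = 1 ⊗ₜ (a • c) := by
        intro a c
        rw [TensorProduct.tmul_smul]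
        exact algebraMap_smul Pb a ((1 : Pb) ⊗ₜ[P] c)
      rw [h5, hs, TensorProduct.tmul_sum]
      exact Finset.sum_congr rfl fun k _ => (h5 _ _).symm
    rw [h4]
    exact Submodule.sum_mem _ fun k _ => Submodule.smul_mem_smul
      (Ideal.mem_map_of_mem _ (hi k)) trivial

end Groth.Agent.FamCyc.K812.QSDom
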