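import Groth.Agent.FamCyc.K812.QSDom4
import Groth.Agent.PicLoc.K727.FlatFpGood

set_option autoImplicit false
universe u v w

open TensorProduct AlgebraicGeometry CategoryTheory

namespace Groth.Agent.FamCyc.K812.QSDom

attribute [local instance] MvPolynomial.algebraMvPolynomial

theorem ascend (R₀ R : Type u) [CommRing R₀] [CommRing R] [Algebra R₀ R]
    (hinj : Function.Injective (algebraMap R₀ R)) (n : ℕ) (C₀ : Type u) [CommRing C₀]
    [Algebra (MvPolynomial (Fin n) R₀) C₀] [Module.Flat (MvPolynomial (Fin n) R₀) C₀] (t₀ : C₀)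
    (D₀ : Type u) [CommRing D₀] [Algebra (MvPolynomial (Fin n) R₀) D₀] [Algebra R₀ D₀]
    [IsScalarTower R₀ (MvPolynomial (Fin n) R₀) D₀] [Algebra.Etale R₀ D₀]
    (himm : IsImmersion (Spec.map (CommRingCat.ofHom (algebraMap (MvPolynomial (Fin n) R₀) D₀))))
    (ht : (1 : D₀) ⊗ₜ[MvPolynomial (Fin n) R₀] t₀ ≠ 0) :
    ∃ (D : Type u) (_ : CommRing D) (_ : Algebra (MvPolynomial (Fin n) R) D) (_ : Algebra R D)
      (_ : IsScalarTower R (MvPolynomial (Fin n) R) D), Algebra.Etale R D ∧
      IsImmersion (Spec.map (CommRingCat.ofHom (algebraMap (MvPolynomial (Fin n) R) D))) ∧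
      (1 : D) ⊗ₜ[MvPolynomial (Fin n) R]
        ((1 : MvPolynomial (Fin n) R) ⊗ₜ[MvPolynomial (Fin n) R₀] t₀) ≠ 0 := by
  let P₀ := MvPolynomial (Fin n) R₀
  let P := MvPolynomial (Fin n) R
  let D := R ⊗[R₀] D₀
  let φ : P →ₐ[R] D := MvPolynomial.aeval
    (fun i => (1 : R) ⊗ₜ[R₀] (algebraMap P₀ D₀ (MvPolynomial.X i)))
  let a1 : Algebra P D := φ.toRingHom.toAlgebra
  let a2 : Algebra D₀ D := Algebra.TensorProduct.rightAlgebra
  let a3 : Algebra P₀ D := ((algebraMap D₀ D).comp (algebraMap P₀ D₀)).toAlgebra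
  have t1 : IsScalarTower P₀ D₀ D := IsScalarTower.of_algebraMap_eq' rfl
  have t2 : IsScalarTower R P D := IsScalarTower.of_algebraMap_eq' φ.comp_algebraMap.symm
  have t3 : IsScalarTower R₀ R D := inferInstance
  have t4 : IsScalarTower R₀ D₀ D := inferInstance
  have t5 : IsScalarTower P₀ P D := IsScalarTower.of_algebraMap_eq' (by
    apply MvPolynomial.ringHom_ext
    · intro r
      have h1 : algebraMap P₀ P (MvPolynomial.C r) = algebraMap R P (algebraMap R₀ R r) :=
        MvPolynomial.map_C _ _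
      change algebraMap D₀ D (algebraMap P₀ D₀ (algebraMap R₀ P₀ r)) = algebraMap P D (algebraMap P₀ P _)
      rw [h1, ← IsScalarTower.algebraMap_apply R₀ P₀ D₀, ← IsScalarTower.algebraMap_apply R₀ D₀ D,
        ← IsScalarTower.algebraMap_apply R P D, ← IsScalarTower.algebraMap_apply R₀ R D]
    · intro i
      have h1 : algebraMap P₀ P (MvPolynomial.X i) = MvPolynomial.X i :=
        MvPolynomial.map_X _ _
      have h2 : φ (MvPolynomial.X i) = (1 : R) ⊗ₜ[R₀] (algebraMap P₀ D₀ (MvPolynomial.X i)) :=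
        MvPolynomial.aeval_X _ _
      change algebraMap D₀ D (algebraMap P₀ D₀ _) = algebraMap P D (algebraMap P₀ P _)
      rw [h1]
      exact h2.symm)
  have t6 : IsScalarTower R₀ P D := IsScalarTower.of_algebraMap_eq (fun r => by
    rw [IsScalarTower.algebraMap_apply R₀ R P, ← IsScalarTower.algebraMap_apply R P D,
      ← IsScalarTower.algebraMap_apply R₀ R D])
  have p1 : Algebra.IsPushout R₀ D₀ R D := Algebra.IsPushout.symm inferInstance
  have p2 : Algebra.IsPushout P₀ D₀ P D :=
    (Algebra.IsPushout.comp_iff (R := R₀) (S := P₀) (R' := R) (S' := P) (T := D₀) (T' := D)).mp p1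
  refine ⟨D, inferInstance, a1, inferInstance, t2, inferInstance, ?_, ?_⟩
  · have h1 := (CommRingCat.isPushout_iff_isPushout (R := P₀) (S := D₀) (R' := P) (S' := D)).mpr p2.symm
    have h2 := isPullback_SpecMap_of_isPushout _ _ _ _ h1
    exact MorphismProperty.of_isPullback (P := @IsImmersion) h2.flip himm
  · intro h0
    have h1 := congrArg (AlgebraTensorModule.cancelBaseChange P₀ P D D C₀) h0
    rw [map_zero, AlgebraTensorModule.cancelBaseChange_tmul, one_smul] at h1
    have h2 := congrArg (AlgebraTensorModule.cancelBaseChange P₀ D₀ D D C₀).symm h1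
    rw [map_zero, AlgebraTensorModule.cancelBaseChange_symm_tmul] at h2
    have hi : Function.Injective (algebraMap D₀ D) :=
      Algebra.TensorProduct.includeRight_injective hinj
    have : FaithfulSMul D₀ D := (faithfulSMul_iff_algebraMap_injective D₀ D).mpr hi
    have h3 := Module.Flat.tensorProduct_mk_injective (R := D₀) (S := D) (M := D₀ ⊗[P₀] C₀)
    apply ht
    apply h3
    rw [map_zero]
    exact h2

end Groth.Agent.FamCyc.K812.QSDom
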