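import Groth.Agent.FamCyc.K812.QSDom5

set_option autoImplicit false
universe u v w

open TensorProduct AlgebraicGeometry CategoryTheory

namespace Groth.Agent.FamCyc.K812.QSDom

attribute [local instance] MvPolynomial.algebraMvPolynomial

theorem general (R : Type u) [CommRing R] (n : ℕ) (C : Type u) [CommRing C]
    [Algebra (MvPolynomial (Fin n) R) C] [Algebra.FinitePresentation (MvPolynomial (Fin n) R) C]
    [Module.Flat (MvPolynomial (Fin n) R) C] (t : C) (ht : t ≠ 0) :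
    ∃ (D : Type u) (_ : CommRing D) (_ : Algebra (MvPolynomial (Fin n) R) D) (_ : Algebra R D)
      (_ : IsScalarTower R (MvPolynomial (Fin n) R) D), Algebra.Etale R D ∧
      IsImmersion (Spec.map (CommRingCat.ofHom (algebraMap (MvPolynomial (Fin n) R) D))) ∧
      (1 : D) ⊗ₜ[MvPolynomial (Fin n) R] t ≠ 0 := by
  classical
  let P := MvPolynomial (Fin n) R
  obtain ⟨P₁, C₁, _, _, ⟨s, hs⟩, ⟨hflat, hfp⟩, ⟨ε⟩⟩ := K727.FlatFpGood.spread P C
  obtain ⟨S, hS⟩ := TensorProduct.exists_finset (ε t)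
  let G : Finset P := s ∪ S.image Prod.fst
  let R₀ : Subalgebra ℤ R := Algebra.adjoin ℤ (G.biUnion fun q => q.coeffs : Finset R)
  have hR₀fg : R₀.FG := ⟨_, rfl⟩
  have : Algebra.FiniteType ℤ R₀ := (Subalgebra.fg_iff_finiteType R₀).mp hR₀fg
  have hnoeth : IsNoetherianRing R₀ := Algebra.FiniteType.isNoetherianRing ℤ R₀
  let P₀ := MvPolynomial (Fin n) R₀
  have hinj : Function.Injective (algebraMap R₀ R) := Subtype.val_injective
  have hPinj : Function.Injective (algebraMap P₀ P) := MvPolynomial.map_injective _ hinj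
  have hG : ∀ q ∈ G, q ∈ (algebraMap P₀ P).range := by
    intro q hq
    have h1 : q ∈ Set.range (MvPolynomial.map (algebraMap R₀ R)) := by
      rw [MvPolynomial.mem_range_map_iff_coeffs_subset]
      intro c hc
      refine ⟨⟨c, Algebra.subset_adjoin ?_⟩, rfl⟩
      rw [Finset.mem_coe, Finset.mem_biUnion]
      exact ⟨q, hq, hc⟩
    exact h1
  have hP₁ : ∀ y : P₁, (y : P) ∈ (algebraMap P₀ P).range := by
    have h1 : P₁ ≤ (algebraMap P₀ P).toIntAlgHom.range := by
      rw [← hs]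
      refine Algebra.adjoin_le fun q hq => ?_
      exact hG q (Finset.mem_union_left _ hq)
    intro y
    exact h1 y.2
  let e := RingEquiv.ofBijective (algebraMap P₀ P).rangeRestrict
    ⟨fun a b hab => hPinj (congrArg Subtype.val hab), (algebraMap P₀ P).rangeRestrict_surjective⟩
  let lam : P₁ →+* P₀ := e.symm.toRingHom.comp
    ((P₁.val : P₁ →+* P).codRestrict (algebraMap P₀ P).range hP₁)
  have hlam : ∀ y : P₁, algebraMap P₀ P (lam y) = y := by
    intro y
    have h1 : e (e.symm ⟨(y : P), hP₁ y⟩) = ⟨(y : P), hP₁ y⟩ := e.apply_symm_apply _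
    exact congrArg Subtype.val h1
  let _ : Algebra P₁ P₀ := lam.toAlgebra
  have hst : IsScalarTower P₁ P₀ P := IsScalarTower.of_algebraMap_eq fun y => (hlam y).symm
  let C₀ := P₀ ⊗[P₁] C₁
  choose pre hpre using hG
  let t₀ : C₀ := ∑ i ∈ S.attach, (pre i.1.1 (Finset.mem_union_right _
    (Finset.mem_image_of_mem _ i.2))) ⊗ₜ[P₁] i.1.2
  let Ω : C ≃ₐ[P] P ⊗[P₀] C₀ := ε.trans (Algebra.TensorProduct.cancelBaseChange P₁ P₀ P P C₁).symm
  have hΩ : Ω t = 1 ⊗ₜ t₀ := by
    change (Algebra.TensorProduct.cancelBaseChange P₁ P₀ P P C₁).symm (ε t) = _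
    rw [AlgEquiv.symm_apply_eq, hS, TensorProduct.tmul_sum, map_sum, ← Finset.sum_attach]
    refine Finset.sum_congr rfl fun i _ => ?_
    have h1 : (Algebra.TensorProduct.cancelBaseChange P₁ P₀ P P C₁)
      ((1 : P) ⊗ₜ[P₀] ((pre i.1.1 (Finset.mem_union_right _
        (Finset.mem_image_of_mem _ i.2))) ⊗ₜ[P₁] i.1.2)) = ((pre i.1.1 (Finset.mem_union_right _
        (Finset.mem_image_of_mem _ i.2))) • (1 : P)) ⊗ₜ[P₁] i.1.2 :=
      Algebra.TensorProduct.cancelBaseChange_tmul P₁ P₀ P P C₁ _ _ _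
    rw [h1, Algebra.smul_def, mul_one, hpre]
  have ht₀ : t₀ ≠ 0 := by
    intro h
    apply ht
    apply Ω.injective
    rw [hΩ, h, tmul_zero, map_zero]
  obtain ⟨D₀, _, _, _, _, het₀, himm₀, hne₀⟩ := noeth R₀ n C₀ t₀ ht₀
  obtain ⟨D, i1, i2, i3, i4, het, himm, hne⟩ := ascend R₀ R hinj n C₀ t₀ D₀ himm₀ hne₀
  refine ⟨D, i1, i2, i3, i4, het, himm, ?_⟩
  intro h0
  apply hne
  have h1 := congrArg (LinearMap.lTensor D Ω.toLinearMap) h0
  rw [map_zero, LinearMap.lTensor_tmul] at h1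
  rw [← hΩ]
  exact h1

end Groth.Agent.FamCyc.K812.QSDom
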