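import Groth.Agent.FamCyc.K812.QSDom6

set_option autoImplicit false
universe u v w

open TensorProduct AlgebraicGeometry CategoryTheory

namespace Groth.Agent.FamCyc.K812.QSDom

theorem etale_over (R B C : Type u) [CommRing R] [CommRing B] [CommRing C] (n : ℕ)
    [Algebra (MvPolynomial (Fin n) R) B] [Algebra.Etale (MvPolynomial (Fin n) R) B]
    [Algebra R B] [IsScalarTower R (MvPolynomial (Fin n) R) B]
    [Algebra B C] [Algebra.FinitePresentation B C] [Module.Flat B C] (t : C) (ht : t ≠ 0) :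
    ∃ (D : Type u) (_ : CommRing D) (_ : Algebra B D),
      Etale (Spec.map (CommRingCat.ofHom (algebraMap B D)) ≫
        Spec.map (CommRingCat.ofHom (algebraMap R B))) ∧
      IsImmersion (Spec.map (CommRingCat.ofHom (algebraMap B D))) ∧
      (1 : D) ⊗ₜ[B] t ≠ 0 := by
  let P := MvPolynomial (Fin n) R
  let _ : Algebra P C := ((algebraMap B C).comp (algebraMap P B)).toAlgebra
  have t1 : IsScalarTower P B C := IsScalarTower.of_algebraMap_eq' rfl
  have : Algebra.FinitePresentation P C := Algebra.FinitePresentation.trans P B C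
  have : Module.Flat P B := inferInstance
  have : Module.Flat P C := Module.Flat.trans P B C
  obtain ⟨D, _, _, _, _, het, himm, hne⟩ := general R n C t ht
  let D' := B ⊗[P] D
  have hpb : IsPullback (Spec.map (CommRingCat.ofHom (algebraMap B D')))
      (Spec.map (CommRingCat.ofHom (Algebra.TensorProduct.includeRight : D →ₐ[P] D').toRingHom))
      (Spec.map (CommRingCat.ofHom (algebraMap P B)))
      (Spec.map (CommRingCat.ofHom (algebraMap P D))) :=
    isPullback_SpecMap_of_isPushout _ _ _ _ (CommRingCat.isPushout_tensorProduct P B D)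
  have himm' : IsImmersion (Spec.map (CommRingCat.ofHom (algebraMap B D'))) :=
    MorphismProperty.of_isPullback (P := @IsImmersion) hpb.flip himm
  have hPB : Etale (Spec.map (CommRingCat.ofHom (algebraMap P B))) :=
    HasRingHomProperty.Spec_iff.mpr (RingHom.etale_algebraMap.mpr inferInstance)
  have hRD : Etale (Spec.map (CommRingCat.ofHom (algebraMap R D))) :=
    HasRingHomProperty.Spec_iff.mpr (RingHom.etale_algebraMap.mpr het)
  have het' : Etale (Spec.map (CommRingCat.ofHom
      (Algebra.TensorProduct.includeRight : D →ₐ[P] D').toRingHom)) :=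
    MorphismProperty.of_isPullback (P := @Etale) hpb hPB
  refine ⟨D', inferInstance, inferInstance, ?_, himm', ?_⟩
  · have h1 : Spec.map (CommRingCat.ofHom (algebraMap B D')) ≫
        Spec.map (CommRingCat.ofHom (algebraMap R B)) =
        Spec.map (CommRingCat.ofHom
          (Algebra.TensorProduct.includeRight : D →ₐ[P] D').toRingHom) ≫
        Spec.map (CommRingCat.ofHom (algebraMap R D)) := by
      rw [← Spec.map_comp, ← Spec.map_comp]
      congr 1
      ext r
      change algebraMap B D' (algebraMap R B r) =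
        (Algebra.TensorProduct.includeRight : D →ₐ[P] D') (algebraMap R D r)
      rw [IsScalarTower.algebraMap_apply R P B, IsScalarTower.algebraMap_apply R P D,
        ← IsScalarTower.algebraMap_apply P B D', AlgHom.commutes]
    rw [h1]
    infer_instance
  · let N := D ⊗[P] C
    intro h0
    apply hne
    let _ : Algebra B N := ((Algebra.TensorProduct.includeRight : C →ₐ[P] N).toRingHom.comp
      (algebraMap B C)).toAlgebra
    have t2 : IsScalarTower P B N := IsScalarTower.of_algebraMap_eq (fun x => by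
      change _ = (Algebra.TensorProduct.includeRight : C →ₐ[P] N) (algebraMap P C x)
      rw [AlgHom.commutes])
    let α : D' →ₐ[B] N := Algebra.TensorProduct.lift (Algebra.ofId B N)
      (Algebra.TensorProduct.includeLeft : D →ₐ[P] N) (fun _ _ => .all _ _)
    let β : C →ₐ[B] N := { (Algebra.TensorProduct.includeRight : C →ₐ[P] N).toRingHom with
      commutes' := fun _ => rfl }
    let γ : D' ⊗[B] C →ₐ[B] N := Algebra.TensorProduct.lift α β (fun _ _ => .all _ _)
    have h1 : γ (1 ⊗ₜ t) = 1 ⊗ₜ t := by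
      refine (Algebra.TensorProduct.lift_tmul _ _ _ _ _).trans ?_
      rw [map_one, one_mul]
      rfl
    rw [← h1, h0, map_zero]

theorem appLE_fromSpec {X : Scheme.{u}} {W : X.Opens} (hW : IsAffineOpen W)
    (V : X.Opens) (h : W ≤ V) (h' : ⊤ ≤ hW.fromSpec ⁻¹ᵁ V) :
    hW.fromSpec.appLE V ⊤ h' =
      X.presheaf.map (homOfLE h).op ≫ (Scheme.ΓSpecIso Γ(X, W)).inv := by
  rw [Scheme.Hom.appLE, hW.fromSpec_app_of_le V h, Category.assoc, Category.assoc,
    ← Functor.map_comp]
  rfl

theorem appLE_comp_fromSpec {X : Scheme.{u}} {W : X.Opens} (hW : IsAffineOpen W) {E : CommRingCat.{u}}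
    (φ : Γ(X, W) ⟶ E) (V : X.Opens) (h : W ≤ V) (h' : ⊤ ≤ (Spec.map φ ≫ hW.fromSpec) ⁻¹ᵁ V) :
    (Spec.map φ ≫ hW.fromSpec).appLE V ⊤ h' =
      X.presheaf.map (homOfLE h).op ≫ φ ≫ (Scheme.ΓSpecIso E).inv := by
  have h0 : ⊤ ≤ hW.fromSpec ⁻¹ᵁ V := by
    rw [← hW.fromSpec_preimage_self]
    exact fun x hx => h hx
  rw [← Scheme.Hom.appLE_comp_appLE (Spec.map φ) hW.fromSpec V ⊤ ⊤ h0 le_top, appLE_fromSpec hW V h,
    Scheme.ΓSpecIso_inv_naturality φ, Category.assoc, Scheme.Hom.appTop, Scheme.Hom.app_eq_appLE]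
  rfl

theorem main {S S' B' : Scheme.{u}} (g : S' ⟶ S) [Smooth g]
    (q : B' ⟶ S') [Flat q] [LocallyOfFinitePresentation q] (V : B'.Opens) (t : Γ(B', V))
    (h : ∀ (Z : Scheme.{u}) (j : Z ⟶ S'), IsImmersion j → Etale (j ≫ g) →
      (Limits.pullback.snd j q).app V t = 0) : t = 0 := by
  by_contra ht
  obtain ⟨y, hyV, hy⟩ : ∃ (y : B') (hy : y ∈ V), B'.presheaf.germ V y hy t ≠ 0 := by
    by_contra hcon
    push Not at hcon
    apply ht
    apply TopCat.Presheaf.section_ext B'.sheaf V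
    intro x hx
    exact (hcon x hx).trans (map_zero (B'.presheaf.germ V x hx).hom).symm
  obtain ⟨U, hU, U', hU', hyU', hUU', hsm⟩ := Smooth.exists_isStandardSmooth g (q y)
  obtain ⟨_, ⟨W, hW, rfl⟩, hyW, hWV⟩ := B'.isBasis_affineOpens.exists_subset_of_mem_open
    (show y ∈ (V : Set B') ∩ (q ⁻¹ᵁ U' : Set B') from ⟨hyV, hyU'⟩) (V.2.inter (q ⁻¹ᵁ U').2)
  have hWV' : W ≤ V := fun x hx => (hWV hx).1
  have hWU' : W ≤ q ⁻¹ᵁ U' := fun x hx => (hWV hx).2
  have hW' : IsAffineOpen W := hW
  let tW : Γ(B', W) := B'.presheaf.map (homOfLE hWV').op t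
  have htW : tW ≠ 0 := by
    intro h0
    apply hy
    have h1 := B'.presheaf.germ_res_apply (homOfLE hWV') y hyW t
    rw [← h1]
    change B'.presheaf.germ W y hyW tW = 0
    rw [h0, map_zero]
  obtain ⟨n, γ, hγC, hγ⟩ := hsm.exists_etale_mvPolynomial
  have hflat : (q.appLE U' W hWU').hom.Flat := q.flat_appLE hU' hW' hWU'
  have hfp : (q.appLE U' W hWU').hom.FinitePresentation := q.finitePresentation_appLE hU' hW' hWU'
  let _ : Algebra Γ(S, U) Γ(S', U') := (g.appLE U U' hUU').hom.toAlgebra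
  let _ : Algebra (MvPolynomial (Fin n) Γ(S, U)) Γ(S', U') := γ.toAlgebra
  have t1 : IsScalarTower Γ(S, U) (MvPolynomial (Fin n) Γ(S, U)) Γ(S', U') :=
    IsScalarTower.of_algebraMap_eq' hγC.symm
  have het : Algebra.Etale (MvPolynomial (Fin n) Γ(S, U)) Γ(S', U') := hγ
  let _ : Algebra Γ(S', U') Γ(B', W) := (q.appLE U' W hWU').hom.toAlgebra
  have : Module.Flat Γ(S', U') Γ(B', W) := hflat
  have : Algebra.FinitePresentation Γ(S', U') Γ(B', W) := hfp
  obtain ⟨D, _, _, het, himm, hne⟩ := etale_over Γ(S, U) Γ(S', U') Γ(B', W) n tW htW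
  let ψ : Γ(S', U') ⟶ CommRingCat.of D := CommRingCat.ofHom (algebraMap Γ(S', U') D)
  let j : Spec (CommRingCat.of D) ⟶ S' := Spec.map ψ ≫ hU'.fromSpec
  have hj : IsImmersion j := by
    have : IsImmersion (Spec.map ψ) := himm
    infer_instance
  have hjg : j ≫ g = (Spec.map ψ ≫ Spec.map (g.appLE U U' hUU')) ≫ hU.fromSpec := by
    simp only [j, Category.assoc]
    rw [IsAffineOpen.SpecMap_appLE_fromSpec]
  have hje : Etale (j ≫ g) := by
    have : Etale (Spec.map ψ ≫ Spec.map (g.appLE U U' hUU')) := het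
    rw [hjg]
    infer_instance
  have h0 := h _ j hj hje
  let E := D ⊗[Γ(S', U')] Γ(B', W)
  let a : CommRingCat.of D ⟶ CommRingCat.of E :=
    CommRingCat.ofHom (Algebra.TensorProduct.includeLeft : D →ₐ[Γ(S', U')] E).toRingHom
  let b : Γ(B', W) ⟶ CommRingCat.of E :=
    CommRingCat.ofHom (Algebra.TensorProduct.includeRight : Γ(B', W) →ₐ[Γ(S', U')] E).toRingHom
  have hab : ψ ≫ a = q.appLE U' W hWU' ≫ b := by
    ext x
    change (Algebra.TensorProduct.includeLeft : D →ₐ[Γ(S', U')] E) (algebraMap _ D x) =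
      (Algebra.TensorProduct.includeRight : Γ(B', W) →ₐ[Γ(S', U')] E) (algebraMap _ Γ(B', W) x)
    rw [AlgHom.commutes, AlgHom.commutes]
  let c : Spec (CommRingCat.of E) ⟶ Limits.pullback j q :=
    Limits.pullback.lift (Spec.map a) (Spec.map b ≫ hW'.fromSpec) (by
      simp only [j]
      rw [← Category.assoc, ← Spec.map_comp, hab, Spec.map_comp, Category.assoc, Category.assoc,
        IsAffineOpen.SpecMap_appLE_fromSpec])
  have hc : c ≫ Limits.pullback.snd j q = Spec.map b ≫ hW'.fromSpec := Limits.pullback.lift_snd _ _ _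
  have hle : ⊤ ≤ (Spec.map b ≫ hW'.fromSpec) ⁻¹ᵁ V := by
    intro x _
    have h1 : hW'.fromSpec (Spec.map b x) ∈ W := by
      rw [← SetLike.mem_coe, ← hW'.range_fromSpec]
      exact ⟨_, rfl⟩
    exact hWV' h1
  have h1 : (Spec.map b ≫ hW'.fromSpec).appLE V ⊤ hle t = 0 := by
    have h2 : ∀ (k : Spec (CommRingCat.of E) ⟶ B') (hk : k = c ≫ Limits.pullback.snd j q)
        (hle : ⊤ ≤ k ⁻¹ᵁ V), k.appLE V ⊤ hle t = 0 := by
      rintro _ rfl hle
      rw [← Scheme.Hom.appLE_comp_appLE c (Limits.pullback.snd j q) V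
        ((Limits.pullback.snd j q) ⁻¹ᵁ V) ⊤ le_rfl hle, ← Scheme.Hom.app_eq_appLE]
      change (c.appLE _ ⊤ _) ((Limits.pullback.snd j q).app V t) = 0
      rw [h0, map_zero]
    exact h2 _ hc.symm hle
  rw [appLE_comp_fromSpec hW' b V hWV' hle] at h1
  have h2 : b tW = 0 := by
    have h3 : (Scheme.ΓSpecIso (CommRingCat.of E)).inv (b tW) = 0 := h1
    have h4 := congrArg (Scheme.ΓSpecIso (CommRingCat.of E)).hom h3
    rw [map_zero] at h4
    rwa [← CommRingCat.comp_apply, Iso.inv_hom_id, CommRingCat.id_apply] at h4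
  exact hne h2

end Groth.Agent.FamCyc.K812.QSDom
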