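import Groth.Agent.EGA41.K103.FlatSub
import Mathlib.LinearAlgebra.TensorProduct.RightExactness
import Mathlib.RingTheory.Flat.Basic
import Mathlib.Algebra.TrivSqZeroExt.Basic

/-!
# Descending a flat family of ideals along an algebra with constant functions

`A → B` rings, `E i` a presheaf of `B`-algebras on a preorder such that compatible families in
`E i ⊗[B] M` come from `M` for every `B`-module `M`; `K i` ideals of `E i` with `E i ⧸ K i` flat
over `A`.  If `K i` is extended from `B` modulo a nilpotent ideal of `A`, then it is extended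
from `B` (`exists_ideal_of_nilpotent`).
-/

set_option autoImplicit false
universe u

open TensorProduct

namespace FamCyc.K812.RigidIdeal

section theta

variable {A : Type u} [CommRing A] (a : Ideal A) (F : Type u) [AddCommGroup F] [Module A F]

/-- `F ⊗ a → F`. -/
noncomputable def theta : F ⊗[A] a →ₗ[A] F :=
  (TensorProduct.rid A F).toLinearMap ∘ₗ (LinearMap.lTensor F a.subtype)

@[simp]
lemma theta_tmul (f : F) (j : a) : theta a F (f ⊗ₜ j) = (j : A) • f := by
  simp [theta]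

lemma theta_injective [Module.Flat A F] : Function.Injective (theta a F) := by
  rw [theta, LinearMap.coe_comp]
  exact (TensorProduct.rid A F).injective.comp
    (Module.Flat.lTensor_preserves_injective_linearMap _ a.subtype_injective)

lemma exists_theta (y : F) (hy : y ∈ a • (⊤ : Submodule A F)) : ∃ t, theta a F t = y := by
  refine Submodule.smul_induction_on hy (fun r hr n _ => ⟨n ⊗ₜ ⟨r, hr⟩, by simp⟩) ?_
  rintro x y ⟨t, rfl⟩ ⟨t', rfl⟩
  exact ⟨t + t', map_add _ _ _⟩

end theta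

section alg

variable {A B : Type u} [CommRing A] [CommRing B] [Algebra A B]

/-- the module `M = (B ⧸ I) ⊗ a`. -/
abbrev Mod (a : Ideal A) (I : Ideal B) : Type u := (B ⧸ I) ⊗[A] a

variable (a : Ideal A) (I : Ideal B) {E : Type u} [CommRing E] [Algebra B E] [Algebra A E]
  [IsScalarTower A B E]

/-- bilinear map `E × a → E ⊗ M`. -/
noncomputable def lamAux : E →ₗ[A] a →ₗ[A] E ⊗[B] Mod a I :=
  LinearMap.mk₂ A (fun e j => e ⊗ₜ[B] ((1 : B ⧸ I) ⊗ₜ[A] j))
    (fun e e' j => by rw [TensorProduct.add_tmul])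
    (fun c e j => by rw [TensorProduct.smul_tmul'])
    (fun e j j' => by rw [TensorProduct.tmul_add, TensorProduct.tmul_add])
    (fun c e j => by
      rw [TensorProduct.tmul_smul]
      rw [← algebraMap_smul B c ((1 : B ⧸ I) ⊗ₜ[A] j), TensorProduct.tmul_smul,
        TensorProduct.smul_tmul', TensorProduct.smul_tmul', algebraMap_smul])

@[simp]
lemma lamAux_apply (e : E) (j : a) : lamAux a I e j = e ⊗ₜ[B] ((1 : B ⧸ I) ⊗ₜ[A] j) := rfl

omit [Algebra A E] [IsScalarTower A B E] in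
lemma lamAux_eq_zero {e : E} (he : e ∈ I.map (algebraMap B E)) (j : a) :
    e ⊗ₜ[B] ((1 : B ⧸ I) ⊗ₜ[A] j) = 0 := by
  refine Submodule.span_induction (p := fun e _ => e ⊗ₜ[B] ((1 : B ⧸ I) ⊗ₜ[A] j) = 0)
    ?_ ?_ ?_ ?_ he
  · rintro _ ⟨b, hb, rfl⟩
    have h0 : (b • (1 : B ⧸ I)) = 0 := by
      rw [← Algebra.algebraMap_eq_smul_one]
      exact Ideal.Quotient.eq_zero_iff_mem.mpr hb
    rw [Algebra.algebraMap_eq_smul_one, TensorProduct.smul_tmul, TensorProduct.smul_tmul', h0,
      TensorProduct.zero_tmul, TensorProduct.tmul_zero]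
  · rw [TensorProduct.zero_tmul]
  · intro x y _ _ hx hy
    rw [TensorProduct.add_tmul, hx, hy, add_zero]
  · intro c x _ hx
    have : (c • x) ⊗ₜ[B] ((1 : B ⧸ I) ⊗ₜ[A] j) = c • (x ⊗ₜ[B] ((1 : B ⧸ I) ⊗ₜ[A] j)) := rfl
    rw [this, hx, smul_zero]

/-- auxiliary. -/
noncomputable def lamQ (K : Ideal E) (hK : K ≤ I.map (algebraMap B E)) :
    (E ⧸ (K.restrictScalars A)) →ₗ[A] (a →ₗ[A] E ⊗[B] Mod a I) :=
  Submodule.liftQ (R₂ := A) (τ₁₂ := RingHom.id A) (M₂ := a →ₗ[A] E ⊗[B] Mod a I)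
    (K.restrictScalars A) (lamAux a I) (fun e he => by
    rw [LinearMap.mem_ker]
    ext j
    exact lamAux_eq_zero a I (hK he) j)

/-- `λ : (E ⧸ K) ⊗ a → E ⊗ M`, for `K ≤ I E`. -/
noncomputable def lam (K : Ideal E) (hK : K ≤ I.map (algebraMap B E)) :
    (E ⧸ K) ⊗[A] a →ₗ[A] E ⊗[B] Mod a I :=
  TensorProduct.lift
    (lamQ a I K hK ∘ₗ (Submodule.Quotient.restrictScalarsEquiv A K).symm.toLinearMap)

@[simp]
lemma lam_tmul (K : Ideal E) (hK : K ≤ I.map (algebraMap B E)) (e : E) (j : a) :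
    lam a I K hK (Ideal.Quotient.mk K e ⊗ₜ j) = e ⊗ₜ[B] ((1 : B ⧸ I) ⊗ₜ[A] j) := by
  rfl

/-- `M → E ⧸ L`. -/
noncomputable def nu (L : Ideal E)
    (hL : ∀ b ∈ I, ∀ j ∈ a, algebraMap B E b * algebraMap A E j ∈ L) : Mod a I →ₗ[B] E ⧸ L :=
  TensorProduct.AlgebraTensorModule.lift
    (I.liftQ (LinearMap.toSpanSingleton B (a →ₗ[A] E ⧸ L)
      ((Algebra.linearMap A (E ⧸ L)) ∘ₗ a.subtype)) (fun b hb => by
        rw [LinearMap.mem_ker]
        ext j
        change b • (Ideal.Quotient.mk L (algebraMap A E j)) = 0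
        rw [← Ideal.Quotient.mk_eq_mk, ← Submodule.Quotient.mk_smul, Submodule.Quotient.mk_eq_zero,
          Algebra.smul_def]
        exact hL b hb j j.2))

lemma nu_tmul (L : Ideal E)
    (hL : ∀ b ∈ I, ∀ j ∈ a, algebraMap B E b * algebraMap A E j ∈ L) (b : B) (j : a) :
    nu a I L hL (Ideal.Quotient.mk I b ⊗ₜ[A] j) =
      Ideal.Quotient.mk L (algebraMap B E b * algebraMap A E j) := by
  change b • (Ideal.Quotient.mk L (algebraMap A E j)) = _
  rw [← Ideal.Quotient.mk_eq_mk, ← Submodule.Quotient.mk_smul, Ideal.Quotient.mk_eq_mk,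
    Algebra.smul_def]

/-- `μ : E ⊗ M → E ⧸ L`. -/
noncomputable def mu (L : Ideal E)
    (hL : ∀ b ∈ I, ∀ j ∈ a, algebraMap B E b * algebraMap A E j ∈ L) :
    E ⊗[B] Mod a I →ₗ[E] E ⧸ L :=
  LinearMap.liftBaseChange E (nu a I L hL)

lemma mu_lam (K : Ideal E) (hK : K ≤ I.map (algebraMap B E)) (L : Ideal E)
    (hL : ∀ b ∈ I, ∀ j ∈ a, algebraMap B E b * algebraMap A E j ∈ L) (hKL : K ≤ L)
    (t : (E ⧸ K) ⊗[A] a) :
    mu a I L hL (lam a I K hK t) = Ideal.Quotient.factor hKL (theta a (E ⧸ K) t) := by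
  induction t using TensorProduct.induction_on with
  | zero => rw [map_zero, map_zero, map_zero, map_zero]
  | add x y hx hy => rw [map_add, map_add, hx, hy, map_add, map_add]
  | tmul f j =>
    obtain ⟨e, rfl⟩ := Ideal.Quotient.mk_surjective f
    rw [lam_tmul, mu, LinearMap.liftBaseChange_tmul, ← map_one (Ideal.Quotient.mk I), nu_tmul,
      map_one, one_mul, theta_tmul]
    change Ideal.Quotient.mk L (e * algebraMap A E j) = Ideal.Quotient.mk L ((j : A) • e)
    rw [Algebra.smul_def, mul_comm]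

/-- `μ (1 ⊗ m)` comes from `a B`. -/
lemma exists_mu {ι : Type u} (E : ι → Type u) [∀ i, CommRing (E i)] [∀ i, Algebra B (E i)]
    [∀ i, Algebra A (E i)] [∀ i, IsScalarTower A B (E i)] (L : ∀ i, Ideal (E i))
    (hL : ∀ i, ∀ b ∈ I, ∀ j ∈ a, algebraMap B (E i) b * algebraMap A (E i) j ∈ L i)
    (m : Mod a I) : ∃ y ∈ a.map (algebraMap A B), ∀ i,
      mu a I (L i) (hL i) (1 ⊗ₜ m) = Ideal.Quotient.mk (L i) (algebraMap B (E i) y) := by
  induction m using TensorProduct.induction_on with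
  | zero => exact ⟨0, zero_mem _, fun i => by simp⟩
  | add x y hx hy =>
    obtain ⟨x', hx', hx⟩ := hx
    obtain ⟨y', hy', hy⟩ := hy
    exact ⟨x' + y', add_mem hx' hy', fun i => by
      rw [TensorProduct.tmul_add, map_add, hx, hy, map_add, map_add]⟩
  | tmul b j =>
    obtain ⟨b, rfl⟩ := Ideal.Quotient.mk_surjective b
    refine ⟨b * algebraMap A B j, Ideal.mul_mem_left _ _ (Ideal.mem_map_of_mem _ j.2), fun i => ?_⟩
    rw [mu, LinearMap.liftBaseChange_tmul, one_smul, nu_tmul, map_mul (algebraMap B (E i)),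
      ← IsScalarTower.algebraMap_apply]

/-- naturality of `λ`. -/
lemma lam_naturality {E' : Type u} [CommRing E'] [Algebra B E'] [Algebra A E']
    [IsScalarTower A B E'] (ρ : E →ₐ[B] E') (K : Ideal E) (hK : K ≤ I.map (algebraMap B E))
    (K' : Ideal E') (hK' : K' ≤ I.map (algebraMap B E')) (h : K ≤ K'.comap ρ)
    (t : (E ⧸ K) ⊗[A] a) :
    (ρ.toLinearMap.rTensor (Mod a I)) (lam a I K hK t) =
      lam a I K' hK' ((Ideal.quotientMapₐ K' (ρ.restrictScalars A) h).toLinearMap.rTensor a t) := by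
  induction t using TensorProduct.induction_on with
  | zero => simp
  | add x y hx hy => rw [map_add, map_add, map_add, map_add, hx, hy]
  | tmul f j =>
    obtain ⟨e, rfl⟩ := Ideal.Quotient.mk_surjective f
    rw [lam_tmul, LinearMap.rTensor_tmul, LinearMap.rTensor_tmul]
    change _ = lam a I K' hK' (Ideal.Quotient.mk K' (ρ e) ⊗ₜ j)
    rw [lam_tmul]
    rfl

omit [Algebra B E] [IsScalarTower A B E] in
/-- naturality of `θ`. -/
lemma theta_naturality {F F' : Type u} [AddCommGroup F] [Module A F] [AddCommGroup F'] [Module A F']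
    (ρ : F →ₗ[A] F') (t : F ⊗[A] a) : theta a F' (ρ.rTensor a t) = ρ (theta a F t) := by
  induction t using TensorProduct.induction_on with
  | zero => simp
  | add x y hx hy => rw [map_add, map_add, map_add, map_add, hx, hy]
  | tmul f j => rw [LinearMap.rTensor_tmul, theta_tmul, theta_tmul, map_smul]

end alg

section presheaf

variable {A B : Type u} [CommRing A] [CommRing B] [Algebra A B]
  {ι : Type u} [Preorder ι] (E : ι → Type u) [∀ i, CommRing (E i)] [∀ i, Algebra B (E i)]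
  [∀ i, Algebra A (E i)] [∀ i, IsScalarTower A B (E i)]
  (ρ : ∀ ⦃i j : ι⦄, j ≤ i → (E i →ₐ[B] E j))

/-- compatible families with coefficients in any `B`-module are constant. -/
def ConstMod : Prop :=
  ∀ (M : Type u) [AddCommGroup M] [Module B M] (x : ∀ i, E i ⊗[B] M),
    (∀ ⦃i j⦄ (h : j ≤ i), (ρ h).toLinearMap.rTensor M (x i) = x j) → ∃ m : M, ∀ i, x i = 1 ⊗ₜ m

/-- compatible families with coefficients in any `B`-algebra are constant. -/
def ConstAlg : Prop :=
  ∀ (R : Type u) [CommRing R] [Algebra B R] (x : ∀ i, E i ⊗[B] R),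
    (∀ ⦃i j⦄ (h : j ≤ i), (ρ h).toLinearMap.rTensor R (x i) = x j) → ∃ m : R, ∀ i, x i = 1 ⊗ₜ m

omit [∀ i, Algebra A (E i)] [∀ i, IsScalarTower A B (E i)] in
theorem constMod_of_constAlg (H : ConstAlg E ρ) : ConstMod E ρ := by
  intro M _ _ x hx
  let _ : Module Bᵐᵒᵖ M := Module.compHom _ ((RingHom.id B).fromOpposite mul_comm)
  have : IsCentralScalar B M := ⟨fun r m => rfl⟩
  let R := TrivSqZeroExt B M
  let inr : M →ₗ[B] R := TrivSqZeroExt.inrHom B M
  let snd : R →ₗ[B] M := TrivSqZeroExt.sndHom B M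
  have hs : snd ∘ₗ inr = LinearMap.id := by
    ext m
    rfl
  obtain ⟨r, hr⟩ := H R (fun i => inr.lTensor (E i) (x i)) (fun i j h => by
    rw [← hx h]
    rw [← LinearMap.comp_apply, ← LinearMap.comp_apply, LinearMap.rTensor_comp_lTensor,
      LinearMap.lTensor_comp_rTensor])
  refine ⟨snd r, fun i => ?_⟩
  have h1 := congrArg (snd.lTensor (E i)) (hr i)
  rw [← LinearMap.comp_apply, ← LinearMap.lTensor_comp, hs, LinearMap.lTensor_id,
    LinearMap.lTensor_tmul] at h1
  exact h1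

variable (K : ∀ i, Ideal (E i))

variable (B) in
/-- `K` is extended from `B` modulo `a`. -/
def ExtMod (a : Ideal A) : Prop :=
  ∃ I : Ideal B, a.map (algebraMap A B) ≤ I ∧
    ∀ i, K i ⊔ a.map (algebraMap A (E i)) = I.map (algebraMap B (E i))

variable {E K}

omit [Preorder ι] [∀ i, IsScalarTower A B (E i)] in
lemma mul_mem_sup {a : Ideal A} {I : Ideal B}
    (h1 : ∀ i, K i ⊔ a.map (algebraMap A (E i)) = I.map (algebraMap B (E i))) (i : ι)
    (b : B) (hb : b ∈ I) (j : A) (hj : j ∈ a) :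
    algebraMap B (E i) b * algebraMap A (E i) j ∈ K i ⊔ (a ^ 2).map (algebraMap A (E i)) := by
  have h2 : algebraMap B (E i) b * algebraMap A (E i) j ∈
      (K i ⊔ a.map (algebraMap A (E i))) * a.map (algebraMap A (E i)) :=
    Ideal.mul_mem_mul (by rw [h1 i]; exact Ideal.mem_map_of_mem _ hb) (Ideal.mem_map_of_mem _ hj)
  rw [Ideal.sup_mul] at h2
  refine (sup_le_sup (Ideal.mul_le_left : K i * a.map (algebraMap A (E i)) ≤ _) ?_ :
    _ ≤ K i ⊔ (a ^ 2).map (algebraMap A (E i))) h2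
  rw [pow_two, Ideal.map_mul]

omit [Preorder ι] [Algebra A B] [∀ i, IsScalarTower A B (E i)] in
lemma mk_mem_smul_top {a : Ideal A} {I : Ideal B}
    (h1 : ∀ i, K i ⊔ a.map (algebraMap A (E i)) = I.map (algebraMap B (E i))) (i : ι)
    {x : B} (hx : x ∈ I) :
    Ideal.Quotient.mk (K i) (algebraMap B (E i) x) ∈ a • (⊤ : Submodule A (E i ⧸ K i)) := by
  have h2 : algebraMap B (E i) x ∈ K i ⊔ a.map (algebraMap A (E i)) := by
    rw [h1]
    exact Ideal.mem_map_of_mem _ hx
  obtain ⟨k, hk, z, hz, hkz⟩ := Submodule.mem_sup.mp h2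
  rw [← hkz, map_add, Ideal.Quotient.eq_zero_iff_mem.mpr hk, zero_add]
  have h3 : z ∈ a • (⊤ : Submodule A (E i)) := by
    rw [Ideal.smul_top_eq_map]
    exact hz
  exact Submodule.smul_top_le_comap_smul_top a (Ideal.Quotient.mkₐ A (K i)).toLinearMap h3

variable {ρ}

theorem key (H : ConstMod E ρ) (hK : ∀ ⦃i j⦄ (h : j ≤ i), K i ≤ (K j).comap (ρ h))
    (hfl : ∀ i, Module.Flat A (E i ⧸ K i)) {a : Ideal A} {I : Ideal B}
    (h1 : ∀ i, K i ⊔ a.map (algebraMap A (E i)) = I.map (algebraMap B (E i)))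
    {x : B} (hx : x ∈ I) :
    ∃ y ∈ a.map (algebraMap A B), ∀ i,
      algebraMap B (E i) (x - y) ∈ K i ⊔ (a ^ 2).map (algebraMap A (E i)) := by
  have hKI : ∀ i, K i ≤ I.map (algebraMap B (E i)) := fun i => by rw [← h1 i]; exact le_sup_left
  choose t ht using fun i => exists_theta a (E i ⧸ K i) _ (mk_mem_smul_top h1 i hx)
  have hcomp : ∀ ⦃i j⦄ (h : j ≤ i),
      (Ideal.quotientMapₐ (K j) ((ρ h).restrictScalars A) (hK h)).toLinearMap.rTensor a (t i) =
        t j := fun i j h => by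
    apply theta_injective a (E j ⧸ K j)
    rw [theta_naturality, ht, ht]
    change Ideal.Quotient.mk (K j) (ρ h (algebraMap B (E i) x)) = _
    rw [AlgHom.commutes]
  obtain ⟨m, hm⟩ := H (Mod a I) (fun i => lam a I (K i) (hKI i) (t i)) (fun i j h => by
    rw [lam_naturality a I (ρ h) (K i) (hKI i) (K j) (hKI j) (hK h), hcomp h])
  obtain ⟨y, hy, hym⟩ := exists_mu a I E (fun i => K i ⊔ (a ^ 2).map (algebraMap A (E i)))
    (fun i => mul_mem_sup h1 i) m
  refine ⟨y, hy, fun i => ?_⟩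
  rw [map_sub, ← Ideal.Quotient.eq, ← hym, ← hm i, mu_lam _ _ _ _ _ _ le_sup_left, ht]
  rfl

theorem step (H : ConstMod E ρ) (hK : ∀ ⦃i j⦄ (h : j ≤ i), K i ≤ (K j).comap (ρ h))
    (hfl : ∀ i, Module.Flat A (E i ⧸ K i)) {a : Ideal A} (h : ExtMod B E K a) :
    ExtMod B E K (a ^ 2) := by
  obtain ⟨I, hI, h1⟩ := h
  let L : ∀ i, Ideal (E i) := fun i => K i ⊔ (a ^ 2).map (algebraMap A (E i))
  let I' : Ideal B := ⨅ i, (L i).comap (algebraMap B (E i))
  have hmap : ∀ (c : Ideal A) (i : ι), c.map (algebraMap A (E i)) =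
      (c.map (algebraMap A B)).map (algebraMap B (E i)) := fun c i => by
    rw [Ideal.map_map, ← IsScalarTower.algebraMap_eq]
  have hI' : (a ^ 2).map (algebraMap A B) ≤ I' := by
    refine le_iInf fun i => ?_
    rw [← Ideal.map_le_iff_le_comap, ← hmap]
    exact le_sup_right
  have hII : I ≤ I' ⊔ a.map (algebraMap A B) := fun x hx => by
    obtain ⟨y, hy, hxy⟩ := key H hK hfl h1 hx
    have hx' : x - y ∈ I' := by
      rw [Ideal.mem_iInf]
      exact hxy
    have h3 : x - y ∈ I' ⊔ a.map (algebraMap A B) := Ideal.mem_sup_left hx'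
    have h4 : y ∈ I' ⊔ a.map (algebraMap A B) := Ideal.mem_sup_right hy
    have := add_mem h3 h4
    rwa [sub_add_cancel] at this
  refine ⟨I', hI', fun i => le_antisymm ?_ ?_⟩
  · have h2 : (a ^ 2).map (algebraMap A (E i)) ≤ I'.map (algebraMap B (E i)) := by
      rw [hmap]
      exact Ideal.map_mono hI'
    have h3 : I.map (algebraMap B (E i)) ≤
        I'.map (algebraMap B (E i)) ⊔ a.map (algebraMap A (E i)) := by
      rw [hmap a, ← Ideal.map_sup]
      exact Ideal.map_mono hII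
    have h4 : I'.map (algebraMap B (E i)) ≤ L i := by
      rw [Ideal.map_le_iff_le_comap]
      exact iInf_le _ i
    have h5 : K i ⊓ a.map (algebraMap A (E i)) ≤ I'.map (algebraMap B (E i)) := by
      have := hfl i
      have h6 := K103.FlatSub.inf_smul_top_le_smul' (A := A) (K i) a
      rw [smul_eq_mul, Ideal.mul_top, smul_eq_mul] at h6
      refine h6.trans ?_
      have h7 : K i ≤ I'.map (algebraMap B (E i)) ⊔ a.map (algebraMap A (E i)) := by
        refine le_trans ?_ h3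
        rw [← h1 i]
        exact le_sup_left
      refine (Ideal.mul_mono_right h7).trans ?_
      rw [Ideal.mul_sup]
      refine sup_le Ideal.mul_le_right ?_
      rw [← Ideal.map_mul, ← pow_two]
      exact h2
    refine sup_le (fun y hy => ?_) h2
    have hy1 : y ∈ I'.map (algebraMap B (E i)) ⊔ a.map (algebraMap A (E i)) := by
      apply h3
      rw [← h1 i]
      exact Ideal.mem_sup_left hy
    obtain ⟨y', hy', y'', hy'', rfl⟩ := Submodule.mem_sup.mp hy1
    refine add_mem hy' ?_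
    have hy2 : y'' ∈ L i := by
      have h8 : y' + y'' ∈ L i := Ideal.mem_sup_left hy
      have := sub_mem h8 (h4 hy')
      rwa [add_sub_cancel_left] at this
    obtain ⟨k, hk, w, hw, rfl⟩ := Submodule.mem_sup.mp hy2
    refine add_mem (h5 ⟨hk, ?_⟩) (h2 hw)
    have hw' : w ∈ a.map (algebraMap A (E i)) := Ideal.map_mono (Ideal.pow_le_self two_ne_zero) hw
    have := sub_mem hy'' hw'
    rwa [add_sub_cancel_right] at this
  · rw [Ideal.map_le_iff_le_comap]
    exact iInf_le _ i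

theorem extMod_bot (H : ConstMod E ρ) (hK : ∀ ⦃i j⦄ (h : j ≤ i), K i ≤ (K j).comap (ρ h))
    (hfl : ∀ i, Module.Flat A (E i ⧸ K i)) {a : Ideal A} (ha : IsNilpotent a)
    (h : ExtMod B E K a) : ExtMod B E K (⊥ : Ideal A) := by
  have h1 : ∀ n : ℕ, ExtMod B E K (a ^ (2 ^ n)) := fun n => by
    induction n with
    | zero => rwa [pow_zero, pow_one]
    | succ n ih =>
      rw [pow_succ, pow_mul]
      exact step (ρ := ρ) H hK hfl ih
  obtain ⟨m, hm⟩ := ha
  have h2 : a ^ (2 ^ m) = ⊥ := by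
    have : m ≤ 2 ^ m := Nat.lt_two_pow_self.le
    obtain ⟨c, hc⟩ := Nat.exists_eq_add_of_le this
    rw [hc, pow_add, hm, zero_mul]
    rfl
  rw [← h2]
  exact h1 m

/-- A flat family of ideals which is extended from `B` modulo a nilpotent ideal of `A`
is extended from `B`. -/
theorem eq_map_of_nilpotent (H : ConstMod E ρ)
    (hK : ∀ ⦃i j⦄ (h : j ≤ i), K i ≤ (K j).comap (ρ h))
    (hfl : ∀ i, Module.Flat A (E i ⧸ K i)) {a : Ideal A} (ha : IsNilpotent a)
    (h : ExtMod B E K a) (i : ι) :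
    K i = (⨅ j, (K j).comap (algebraMap B (E j))).map (algebraMap B (E i)) := by
  obtain ⟨I, -, hI⟩ := extMod_bot H hK hfl ha h
  have hI' : ∀ j, K j = I.map (algebraMap B (E j)) := fun j => by
    rw [← hI j, Ideal.map_bot, sup_bot_eq]
  apply le_antisymm
  · rw [hI' i]
    refine Ideal.map_mono (le_iInf fun j => ?_)
    rw [← Ideal.map_le_iff_le_comap, hI' j]
  · rw [Ideal.map_le_iff_le_comap]
    exact iInf_le _ i

end presheaf

end FamCyc.K812.RigidIdeal
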