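import Groth.Agent.Flat2C.TorAmpRestr
import Groth.Agent.Models.TorPoly
import Groth.Agent.Models.TorVan
import Mathlib.RingTheory.Unramified.Finite

/-!
# Tor dimension of a module and tor amplitude of the complex in degree zero
-/

set_option autoImplicit false
universe u

open CategoryTheory CategoryTheory.Limits

namespace Groth.Agent.FamCyc.K812.TorDimCx

open DRing Groth.Agent.Flat2C.TorAmpCone Groth.Agent.Flat2C.TorAmpRestr Groth.Agent.Models.TorVan

attribute [local instance] HasDerivedCategory.standard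

variable {R : Type u} [CommRing R]

theorem step (P : Cx R) {h i j : ℤ} (hhi : h + 1 = i) (hij : i + 1 = j) (hex : P.ExactAt i)
    (hf : Module.Flat R (P.X j)) (n : ℕ) :
    HasTorDimLE R (n + 1) (Cok P i j) ↔ HasTorDimLE R n (Cok P h i) := by
  let ι : Cok P h i →ₗ[R] P.X j := (LinearMap.range (P.d h i).hom).liftQ (P.d i j).hom (by
    rintro _ ⟨x, rfl⟩
    exact d_d_apply P h i j x)
  let q : P.X j →ₗ[R] Cok P i j := (LinearMap.range (P.d i j).hom).mkQ
  have hex' : ∀ x : P.X i, (P.d i j).hom x = 0 → ∃ y : P.X h, (P.d h i).hom y = x := by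
    rw [HomologicalComplex.exactAt_iff' P h i j (by simp; omega) (by simp; omega),
      ShortComplex.moduleCat_exact_iff] at hex
    exact hex
  have hi : Function.Injective ι := by
    rw [injective_iff_map_eq_zero]
    intro x hx
    obtain ⟨x, rfl⟩ := Submodule.mkQ_surjective _ x
    have h1 : (P.d i j).hom x = 0 := hx
    obtain ⟨y, hy⟩ := hex' x h1
    exact (Submodule.Quotient.mk_eq_zero _).mpr ⟨y, hy⟩
  have hiq : Function.Exact ι q := by
    intro x
    constructor
    · intro hx
      obtain ⟨y, hy⟩ := (Submodule.Quotient.mk_eq_zero _).mp hx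
      exact ⟨Submodule.Quotient.mk y, hy⟩
    · rintro ⟨y, rfl⟩
      obtain ⟨y, rfl⟩ := Submodule.mkQ_surjective _ y
      exact (Submodule.Quotient.mk_eq_zero _).mpr ⟨y, rfl⟩
  have hq : Function.Surjective q := Submodule.mkQ_surjective _
  exact hasTorDimLE_succ_iff ι q hi hiq hq

theorem iter (P : Cx R) (hf : TermwiseFlat P) (n : ℕ) : ∀ (h j : ℤ), h + 1 = j →
    (∀ i, i < j → P.ExactAt i) →
    (HasTorDimLE R n (Cok P h j) ↔ Module.Flat R (Cok P (h - n) (j - n))) := by
  induction n with
  | zero =>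
    intro h j hhj _
    rw [hasTorDimLE_zero_iff, Nat.cast_zero, sub_zero, sub_zero]
  | succ n ih =>
    intro h j hhj hex
    rw [step P (h := h - 1) (i := h) (j := j) (by omega) hhj (hex h (by omega)) (hf j),
      ih (h - 1) h (by omega) (fun i hi => hex i (by omega))]
    have e1 : h - 1 - (n : ℤ) = h - ((n + 1 : ℕ) : ℤ) := by push_cast; ring
    have e2 : h - (n : ℤ) = j - ((n + 1 : ℕ) : ℤ) := by push_cast; omega
    rw [e1, e2]

/-- The complex with `M` in degree `0`. -/
noncomputable abbrev sgl (M : ModuleCat.{u} R) : Cx R :=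
  (HomologicalComplex.single (ModuleCat.{u} R) (ComplexShape.up ℤ) 0).obj M

theorem exists_res (M : ModuleCat.{u} R) : ∃ P : Cx R, (∀ i, 0 < i → IsZero (P.X i)) ∧
    TermwiseFlat P ∧ (∀ i, i < 0 → P.ExactAt i) ∧ Nonempty (toD P ≅ toD (sgl M)) ∧
    Nonempty (Cok P (-1) 0 ≃ₗ[R] M) := by
  have hs : ∀ i : ℤ, i ≠ 0 → IsZero ((sgl M).X i) := fun i hi =>
    HomologicalComplex.isZero_single_obj_X (ComplexShape.up ℤ) 0 M i hi
  obtain ⟨P, f, hP0, hPp, hf⟩ := exists_projective_resolution (sgl M) 0
    (fun i hi => HomologicalComplex.ExactAt.of_isZero (hs i (by omega)))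
  have eD : toD P ≅ toD (sgl M) := asIso (DerivedCategory.Q.map f)
  refine ⟨P, hP0, fun i => flat_of_projective (hPp i), fun i hi => ?_, ⟨eD⟩, ?_⟩
  · exact exactAt_of_iso eD i (HomologicalComplex.ExactAt.of_isZero (hs i (by omega)))
  · obtain ⟨e1⟩ := nonempty_opcycles_equiv P (h := -1) (i := 0) (by omega)
    have hd : P.d 0 1 = 0 := (hP0 1 (by omega)).eq_of_tgt _ _
    have e2 : P.homology 0 ≅ P.opcycles 0 := P.isoHomologyι 0 1 (by simp) hd
    have e3 : P.homology 0 ≅ (sgl M).homology 0 := isoOfQuasiIsoAt f 0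
    have e4 : (sgl M).homology 0 ≅ M :=
      HomologicalComplex.singleObjHomologySelfIso (ComplexShape.up ℤ) 0 M
    exact ⟨e1.symm.trans (e2.symm ≪≫ e3 ≪≫ e4).toLinearEquiv⟩

theorem hasTorAmplitudeIn_mono {a b a' b' : ℤ} (ha : a' ≤ a) (hb : b ≤ b') {K : Dual.D R}
    (h : HasTorAmplitudeIn R a b K) : HasTorAmplitudeIn R a' b' K := by
  obtain ⟨E, h1, h2, h3⟩ := h
  refine ⟨E, ?_, h2, h3⟩
  intro i hi
  exact h1 i (by omega)

theorem hasTorDimLE_of_equiv {n : ℕ} {M N : Type u} [AddCommGroup M] [Module R M] [AddCommGroup N]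
    [Module R N] (e : M ≃ₗ[R] N) (h : HasTorDimLE R n M) : HasTorDimLE R n N := by
  intro L _ _ p hp
  have h1 := h L p hp
  let iM : ModuleCat.of R M ≅ ModuleCat.of R N := e.toModuleIso
  let e' := (((CategoryTheory.Tor (ModuleCat.{u} R) p).mapIso iM).app (ModuleCat.of R L)).toLinearEquiv
  exact e'.symm.toEquiv.subsingleton

/-- Truncation of a bounded above complex of flat modules with a flat cokernel. -/
theorem hasTorAmplitudeIn_of_flat_cok (P : DRing.Cx R) (a b h : ℤ) (hha : h + 1 = a)
    (hP0 : ∀ i, b < i → IsZero (P.X i)) (hex : ∀ i, i < a → P.ExactAt i)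
    (hPf : ∀ i, Module.Flat R (P.X i)) (hcok : Module.Flat R (Flat2C.TorAmpCone.Cok P h a)) :
    DRing.HasTorAmplitudeIn R a b (DRing.toD P) := by
  have hGE : P.IsGE a := by
    rw [CochainComplex.isGE_iff]
    exact hex
  have hcok' : Module.Flat R (P.opcycles a) := by
    obtain ⟨e1⟩ := Flat2C.TorAmpRestr.nonempty_opcycles_equiv P hha
    exact Module.Flat.of_linearEquiv e1
  refine ⟨P.truncGE a, ?_, ?_, ⟨(asIso (DerivedCategory.Q.map (P.πTruncGE a))).symm⟩⟩
  · rintro i (hi | hi)
    · exact CochainComplex.isZero_of_isStrictlyGE _ a i hi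
    · rcases lt_trichotomy i a with h | h | h
      · exact CochainComplex.isZero_of_isStrictlyGE _ a i h
      · subst h
        refine IsZero.of_iso ?_ (P.truncGEXIsoOpcycles i)
        exact IsZero.of_epi (P.pOpcycles i) (hP0 i hi)
      · exact IsZero.of_iso (hP0 i hi) (P.truncGEXIso a i h)
  · intro i
    rcases lt_trichotomy i a with h | h | h
    · have := ModuleCat.subsingleton_of_isZero
        (CochainComplex.isZero_of_isStrictlyGE (P.truncGE a) a i h)
      infer_instance
    · subst h
      exact Module.Flat.of_linearEquiv (P.truncGEXIsoOpcycles i).toLinearEquiv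
    · have := hPf i
      exact Module.Flat.of_linearEquiv (P.truncGEXIso a i h).toLinearEquiv

lemma hasTorAmplitudeIn_of_iso {a b : ℤ} {K L : Dual.D R} (e : K ≅ L)
    (h : DRing.HasTorAmplitudeIn R a b K) : DRing.HasTorAmplitudeIn R a b L := by
  obtain ⟨E, h1, h2, ⟨i⟩⟩ := h
  exact ⟨E, h1, h2, ⟨i ≪≫ e⟩⟩

/-- From the tor amplitude of `M[0]` to the tor dimension of `M`. -/
theorem hasTorDimLE_of_amplitude (M : ModuleCat.{u} R) (n : ℕ) (b : ℤ)
    (h : HasTorAmplitudeIn R (-n) b (toD (sgl M))) : HasTorDimLE R n M := by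
  obtain ⟨E, hE0, hEf, ⟨e⟩⟩ := h
  obtain ⟨P, hP0, hPf, hPex, ⟨eD⟩, ⟨eM⟩⟩ := exists_res M
  have hE : Module.Flat R (Cok E (-n - 1) (-n)) := by
    have := hEf (-n)
    have h0 : IsZero (E.X (-n - 1)) := hE0 _ (Or.inl (by omega))
    have hs : Subsingleton (E.X (-n - 1)) := ModuleCat.subsingleton_of_isZero h0
    have hr : LinearMap.range (E.d (-n - 1) (-n)).hom = ⊥ := by
      rw [LinearMap.range_eq_bot]
      ext x
      rw [Subsingleton.elim x 0, map_zero, map_zero]
    exact Module.Flat.of_linearEquiv (Submodule.quotEquivOfEqBot _ hr)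
  rw [← flat_cok_iff_of_iso (max b 0) P E (fun i hi => hP0 i (by omega))
    (fun i hi => hE0 i (Or.inr (by omega))) hPf hEf (eD ≪≫ e.symm) (by omega)] at hE
  refine hasTorDimLE_of_equiv eM ?_
  rw [iter P hPf n (-1) 0 (by omega) hPex]
  have e1 : (-1 : ℤ) - n = -n - 1 := by omega
  have e2 : (0 : ℤ) - n = -n := by omega
  rw [e1, e2]
  exact hE

/-- From the tor dimension of `M` to the tor amplitude of `M[0]`. -/
theorem amplitude_of_hasTorDimLE (M : ModuleCat.{u} R) (n : ℕ) (h : HasTorDimLE R n M) :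
    HasTorAmplitudeIn R (-n) 0 (toD (sgl M)) := by
  obtain ⟨P, hP0, hPf, hPex, ⟨eD⟩, ⟨eM⟩⟩ := exists_res M
  have h1 := hasTorDimLE_of_equiv eM.symm h
  rw [iter P hPf n (-1) 0 (by omega) hPex] at h1
  have e1 : (-1 : ℤ) - n = -n - 1 := by omega
  have e2 : (0 : ℤ) - n = -n := by omega
  rw [e1, e2] at h1
  exact hasTorAmplitudeIn_of_iso eD (hasTorAmplitudeIn_of_flat_cok P (-n) 0 (-n - 1) (by omega) hP0
    (fun i hi => hPex i (by omega)) hPf h1)

/-- `M[0]` has finite tor amplitude iff `M` has finite tor dimension. -/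
theorem exists_amplitude_iff (M : ModuleCat.{u} R) :
    (∃ a b : ℤ, HasTorAmplitudeIn R a b (toD (sgl M))) ↔ ∃ n : ℕ, HasTorDimLE R n M := by
  constructor
  · rintro ⟨a, b, h⟩
    refine ⟨(-a).toNat, hasTorDimLE_of_amplitude M _ b ?_⟩
    exact hasTorAmplitudeIn_mono (by omega) le_rfl h
  · rintro ⟨n, h⟩
    exact ⟨-n, 0, amplitude_of_hasTorDimLE M n h⟩

/-- Tor dimension over `R` and over `S` agree when flatness does. -/
theorem hasTorDimLE_iff_of_flat (S : Type u) [CommRing S] [Algebra R S] [Module.Flat R S]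
    (hfl : ∀ (N : Type u) [AddCommGroup N] [Module S N] [Module R N] [IsScalarTower R S N],
      Module.Flat R N → Module.Flat S N) (n : ℕ) :
    ∀ (M : Type u) [AddCommGroup M] [Module S M] [Module R M] [IsScalarTower R S M],
      HasTorDimLE R n M → HasTorDimLE S n M := by
  induction n with
  | zero =>
    intro M _ _ _ _ h
    rw [hasTorDimLE_zero_iff] at h ⊢
    exact hfl M h
  | succ n ih =>
    intro M _ _ _ _ h
    obtain ⟨F, _, _, _, q, hq⟩ := exists_free_cover (A := S) M
    have hi : Function.Injective (LinearMap.ker q).subtype := Subtype.val_injective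
    have hiq : Function.Exact (LinearMap.ker q).subtype q := LinearMap.exact_subtype_ker_map q
    rw [hasTorDimLE_succ_iff (LinearMap.ker q).subtype q hi hiq hq]
    let _ : Module R F := Module.compHom F (algebraMap R S)
    have : IsScalarTower R S F := IsScalarTower.of_algebraMap_smul fun _ _ => rfl
    have : Module.Flat R F := Module.Flat.trans R S F
    apply ih
    exact (hasTorDimLE_succ_iff ((LinearMap.ker q).subtype.restrictScalars R)
      (q.restrictScalars R) hi hiq hq).mp h

/-- Restriction along a flat ring map does not increase the tor dimension. -/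
theorem hasTorDimLE_restrict (S : Type u) [CommRing S] [Algebra R S] [Module.Flat R S] (n : ℕ) :
    ∀ (M : Type u) [AddCommGroup M] [Module S M] [Module R M] [IsScalarTower R S M],
      HasTorDimLE S n M → HasTorDimLE R n M := by
  induction n with
  | zero =>
    intro M _ _ _ _ h
    rw [hasTorDimLE_zero_iff] at h ⊢
    exact Module.Flat.trans R S M
  | succ n ih =>
    intro M _ _ _ _ h
    obtain ⟨F, _, _, _, q, hq⟩ := exists_free_cover (A := S) M
    have hi : Function.Injective (LinearMap.ker q).subtype := Subtype.val_injective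
    have hiq : Function.Exact (LinearMap.ker q).subtype q := LinearMap.exact_subtype_ker_map q
    let _ : Module R F := Module.compHom F (algebraMap R S)
    have : IsScalarTower R S F := IsScalarTower.of_algebraMap_smul fun _ _ => rfl
    have : Module.Flat R F := Module.Flat.trans R S F
    refine (hasTorDimLE_succ_iff ((LinearMap.ker q).subtype.restrictScalars R)
      (q.restrictScalars R) hi hiq hq).mpr ?_
    apply ih
    exact (hasTorDimLE_succ_iff (LinearMap.ker q).subtype q hi hiq hq).mp h

/-- Finite tor dimension over an essentially smooth algebra. -/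
theorem exists_hasTorDimLE (A : Type u) [CommRing A] (n : ℕ) [Algebra R A]
    [Algebra (MvPolynomial (Fin n) R) A]
    [IsScalarTower R (MvPolynomial (Fin n) R) A] [Module.Flat (MvPolynomial (Fin n) R) A]
    [Algebra.FormallyUnramified (MvPolynomial (Fin n) R) A]
    [Algebra.EssFiniteType (MvPolynomial (Fin n) R) A] (M : Type u)
    [AddCommGroup M] [Module A M] [Module R M] [IsScalarTower R A M] (m : ℕ)
    (h : HasTorDimLE R m M) : HasTorDimLE A (m + n) M := by
  let P := MvPolynomial (Fin n) R
  let _ : Module P M := Module.compHom M (algebraMap P A)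
  have : IsScalarTower P A M := IsScalarTower.of_algebraMap_smul fun _ _ => rfl
  have : IsScalarTower R P M := IsScalarTower.of_algebraMap_smul fun r x => by
    change (algebraMap P A (algebraMap R P r)) • x = r • x
    rw [← IsScalarTower.algebraMap_apply, algebraMap_smul]
  have h1 := Models.TorPoly.hasTorDimLE_mvPolynomial_fin n h
  exact hasTorDimLE_iff_of_flat A (fun N _ _ _ _ hN =>
    Algebra.FormallyUnramified.flat_of_restrictScalars P A N) (m + n) M h1

end Groth.Agent.FamCyc.K812.TorDimCx
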